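import Mathlib
import Cfsg.Agent.ONType.CzIso

/-!
# The Z*-theorem for 2-elements in a group without normal subgroups of odd order

If `O_{2'}(G) = 1` and `x` is an element of the Sylow 2-subgroup `P` which is not conjugate to any other
element of `P`, then `x` is central.
-/

set_option autoImplicit false
open Cfsg

namespace Cfsg.Agent.H474.ZStarElt

universe u

open Subgroup
open scoped Pointwise

/-- isolation of an element in every 2-subgroup containing a conjugate -/
theorem iso_of_isPGroup {G : Type u} [Group G] [Finite G] (P : Sylow 2 G) {x : G}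
    (hiso : ∀ g : G, g * x * g⁻¹ ∈ P → g * x * g⁻¹ = x) {T : Subgroup G} (hT : IsPGroup 2 T)
    {a b : G} (ha : a * x * a⁻¹ ∈ T) (hb : b * x * b⁻¹ ∈ T) : a * x * a⁻¹ = b * x * b⁻¹ := by
  have : Fact (Nat.Prime 2) := ⟨Nat.prime_two⟩
  obtain ⟨R, hR⟩ := hT.exists_le_sylow
  obtain ⟨g, hg⟩ := MulAction.exists_smul_eq G R P
  have key : ∀ c : G, c * x * c⁻¹ ∈ T → g * (c * x * c⁻¹) * g⁻¹ = x := by
    intro c hc
    have h1 : MulAut.conj g (c * x * c⁻¹) ∈ MulAut.conj g • (R : Subgroup G) :=
      Subgroup.smul_mem_pointwise_smul _ _ _ (hR hc)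
    have h2 : g * (c * x * c⁻¹) * g⁻¹ ∈ P := by
      rw [← hg]; exact h1
    have h3 : g * (c * x * c⁻¹) * g⁻¹ = (g * c) * x * (g * c)⁻¹ := by group
    rw [h3] at h2 ⊢
    exact hiso _ h2
  have h1 := key a ha
  have h2 := key b hb
  have h3 := h1.trans h2.symm
  exact mul_left_cancel (mul_right_cancel h3)

/-- The Z*-theorem for elements of 2-power order (core-free case). -/
theorem mem_center (n : ℕ) : ∀ (G : Type u) [Group G] [Finite G], Nat.card G ≤ n →
    Cfsg.oddCore G = ⊥ → ∀ (P : Sylow 2 G) (x : G), x ∈ P →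
    (∀ g : G, g * x * g⁻¹ ∈ P → g * x * g⁻¹ = x) → x ∈ center G := by
  have : Fact (Nat.Prime 2) := ⟨Nat.prime_two⟩
  induction n with
  | zero =>
    intro G _ _ hc
    have := Nat.card_pos (α := G)
    omega
  | succ n ih =>
    intro G _ _ hc hO P x hxP hiso
    by_cases hx1 : x = 1
    · rw [hx1]; exact one_mem _
    obtain ⟨k, hk⟩ := IsPGroup.iff_orderOf.1 P.isPGroup' ⟨x, hxP⟩
    rw [Subgroup.orderOf_mk] at hk
    have hk0 : k ≠ 0 := by
      rintro rfl
      rw [pow_zero, orderOf_eq_one_iff] at hk
      exact hx1 hk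
    obtain ⟨j, rfl⟩ := Nat.exists_eq_succ_of_ne_zero hk0
    set t : G := x ^ (2 ^ j) with ht
    have ht2 : orderOf t = 2 := by
      rw [ht, orderOf_pow, hk]
      have : Nat.gcd (2 ^ j.succ) (2 ^ j) = 2 ^ j :=
        Nat.gcd_eq_right (pow_dvd_pow 2 (Nat.le_succ j))
      rw [this, Nat.pow_succ]
      exact Nat.mul_div_cancel_left _ (by positivity)
    have htP : t ∈ P := pow_mem hxP _
    -- `x` centralizes `P`
    have hxc : ∀ y ∈ P, y * x = x * y := by
      intro y hy
      have := hiso y (mul_mem (mul_mem hy hxP) (inv_mem hy))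
      calc y * x = (y * x * y⁻¹) * y := by group
        _ = x * y := by rw [this]
    have hpow : ∀ g : G, g * t * g⁻¹ = (g * x * g⁻¹) ^ (2 ^ j) := by
      intro g
      rw [conj_pow]
    -- `t` is isolated
    have htiso : ∀ g : G, g * t * g⁻¹ ∈ P → g * t * g⁻¹ = t := by
      intro g hg
      set s : G := g * t * g⁻¹ with hs
      set c : G := g * x * g⁻¹ with hcdef
      have hsc : s = c ^ (2 ^ j) := hpow g
      have hxC : x ∈ centralizer ({s} : Set G) := by
        rw [mem_centralizer_singleton_iff]
        exact (hxc s hg).symm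
      have hcC : c ∈ centralizer ({s} : Set G) := by
        rw [mem_centralizer_singleton_iff, hsc]
        exact (Commute.refl c).pow_right _
      set C := centralizer ({s} : Set G) with hC
      have hp1 : IsPGroup 2 (zpowers (⟨x, hxC⟩ : C)) := by
        apply IsPGroup.of_card (n := j.succ)
        rw [Nat.card_zpowers, Subgroup.orderOf_mk, hk]
      have hp2 : IsPGroup 2 (zpowers (⟨c, hcC⟩ : C)) := by
        apply IsPGroup.of_card (n := j.succ)
        rw [Nat.card_zpowers, Subgroup.orderOf_mk, ← hk]
        exact orderOf_injective (MulAut.conj g).toMonoidHom (MulAut.conj g).injective x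
      obtain ⟨T1, hT1⟩ := hp1.exists_le_sylow
      obtain ⟨T2, hT2⟩ := hp2.exists_le_sylow
      obtain ⟨e, he⟩ := MulAction.exists_smul_eq C T2 T1
      have h1 : MulAut.conj e (⟨c, hcC⟩ : C) ∈ MulAut.conj e • (T2 : Subgroup C) :=
        Subgroup.smul_mem_pointwise_smul _ _ _ (hT2 (mem_zpowers _))
      have h2 : MulAut.conj e (⟨c, hcC⟩ : C) ∈ (T1 : Subgroup C) := by
        rw [← he]; exact h1
      have h3 : (⟨x, hxC⟩ : C) ∈ (T1 : Subgroup C) := hT1 (mem_zpowers _)
      set T : Subgroup G := (T1 : Subgroup C).map C.subtype with hT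
      have hTp : IsPGroup 2 T := T1.isPGroup'.map _
      have h4 : (e : G) * c * (e : G)⁻¹ ∈ T := ⟨_, h2, rfl⟩
      have h5 : x ∈ T := ⟨_, h3, rfl⟩
      have h6 := iso_of_isPGroup P hiso hTp (a := (e : G) * g) (b := 1) (by
        have : (e : G) * g * x * ((e : G) * g)⁻¹ = (e : G) * c * (e : G)⁻¹ := by
          rw [hcdef]; group
        rw [this]; exact h4) (by simpa using h5)
      have h7 : (e : G) * c * (e : G)⁻¹ = x := by
        have : (e : G) * g * x * ((e : G) * g)⁻¹ = (e : G) * c * (e : G)⁻¹ := by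
          rw [hcdef]; group
        rw [← this, h6]; group
      have h8 : (e : G) * s * (e : G)⁻¹ = t := by
        rw [hsc, ← conj_pow, h7]
      have h9 : (e : G) * s * (e : G)⁻¹ = s := by
        have := mem_centralizer_singleton_iff.1 e.2
        rw [mul_inv_eq_iff_eq_mul]
        exact this
      rw [← h9, h8]
    obtain ⟨N, hN, hNodd, hNc⟩ := Cfsg.Agent.S0215.result P t ht2 htP htiso
    have hN1 : N = ⊥ := Cfsg.Agent.ONType.Cz.eq_bot_of_odd hO N hN hNodd
    have htc : t ∈ center G := by
      rw [mem_center_iff]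
      intro g
      have := hNc g
      rw [hN1, mem_bot] at this
      have h : t * g = g * t := by
        calc t * g = (t * g * t⁻¹ * g⁻¹) * (g * t) := by group
          _ = g * t := by rw [this, one_mul]
      exact h.symm
    have hZc : zpowers t ≤ center G := by rw [zpowers_le]; exact htc
    have hZn : (zpowers t).Normal := ⟨fun a ha g => by
      have := mem_center_iff.1 (hZc ha) g
      rw [this]; simpa using ha⟩
    have hZp : IsPGroup 2 (zpowers t) := by
      apply IsPGroup.of_card (n := 1)
      rw [Nat.card_zpowers, ht2, pow_one]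
    have hZP : zpowers t ≤ (P : Subgroup G) := by rw [zpowers_le]; exact htP
    have hO' := Cfsg.Agent.ONType.Cz.oddCore_quotient_central hO (zpowers t) hZc hZp
    set q := QuotientGroup.mk' (zpowers t) with hq
    have hqs : Function.Surjective q := QuotientGroup.mk'_surjective _
    have hcard : Nat.card (G ⧸ zpowers t) ≤ n := by
      have h1 := Subgroup.card_eq_card_quotient_mul_card_subgroup (zpowers t)
      rw [Nat.card_zpowers, ht2] at h1
      have h2 : 0 < Nat.card (G ⧸ zpowers t) := Nat.card_pos
      omega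
    have hker : q.ker ≤ (P : Subgroup G) := by
      rw [hq, QuotientGroup.ker_mk']; exact hZP
    have hmem : ∀ y : G, q y ∈ (P.mapSurjective hqs : Subgroup (G ⧸ zpowers t)) → y ∈ P := by
      intro y hy
      rw [Sylow.coe_mapSurjective] at hy
      obtain ⟨w, hw, hwy⟩ := Subgroup.mem_map.1 hy
      have : w⁻¹ * y ∈ q.ker := by
        rw [MonoidHom.mem_ker, map_mul, map_inv, hwy]; group
      have h2 := mul_mem hw (hker this)
      rw [mul_inv_cancel_left] at h2
      exact h2
    have h := ih (G ⧸ zpowers t) hcard hO' (P.mapSurjective hqs) (q x)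
      (by
        change q x ∈ (P.mapSurjective hqs : Subgroup (G ⧸ zpowers t))
        rw [Sylow.coe_mapSurjective]
        exact Subgroup.mem_map_of_mem _ hxP)
      (by
        intro g' hg'
        obtain ⟨g, rfl⟩ := hqs g'
        rw [← map_inv, ← map_mul, ← map_mul] at hg' ⊢
        rw [hiso g (hmem _ hg')])
    rw [mem_center_iff]
    intro g
    have h1 := mem_center_iff.1 h (q g)
    have h2 : g * x * g⁻¹ * x⁻¹ ∈ q.ker := by
      rw [MonoidHom.mem_ker, map_mul, map_mul, map_mul, map_inv, map_inv, h1]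
      group
    have h3 : g * x * g⁻¹ ∈ P := by
      have := mul_mem (hker h2) hxP
      rw [inv_mul_cancel_right] at this
      exact this
    have h4 := hiso g h3
    calc g * x = (g * x * g⁻¹) * g := by group
      _ = x * g := by rw [h4]

end Cfsg.Agent.H474.ZStarElt
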