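import Mathlib
import Cfsg.Agent.H474.ZStarElt
import Cfsg.Agent.S3895

/-!
# Groups with exactly `|P|/2` classes of 2-elements: fusion class sizes
-/

set_option autoImplicit false
open Cfsg

namespace Cfsg.Agent.H474.TwoCount

universe u

open Subgroup
open scoped Pointwise

/-- counting lemma -/
theorem count_fibers {α β : Type*} [Finite α] [Finite β] (f : α → β) (hf : Function.Surjective f)
    (a0 : α) (h0 : ∀ a, f a = f a0 → a = a0) (h2 : ∀ a, a ≠ a0 → ∃ b, b ≠ a ∧ f b = f a)
    (hcard : Nat.card α = 2 * Nat.card β) :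
    (∀ a, Nat.card {b // f b = f a} ≤ 3) ∧
    (∀ a b, 3 ≤ Nat.card {x // f x = f a} → 3 ≤ Nat.card {x // f x = f b} → f a = f b) := by
  classical
  have : Fintype α := Fintype.ofFinite α
  have : Fintype β := Fintype.ofFinite β
  set w : β → ℕ := fun c => (Finset.univ.filter (fun a => f a = c)).card with hw
  have hwc : ∀ c, Nat.card {x // f x = c} = w c := by
    intro c
    rw [Nat.card_eq_fintype_card, Fintype.card_subtype]
  have hsum : ∑ c, w c = Nat.card α := by
    rw [Nat.card_eq_fintype_card, ← Finset.card_univ]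
    exact (Finset.card_eq_sum_card_fiberwise (fun a _ => Finset.mem_univ (f a))).symm
  have hβ : Nat.card β = ∑ _c : β, 1 := by
    rw [Nat.card_eq_fintype_card, Finset.sum_const, Finset.card_univ, smul_eq_mul, mul_one]
  have h1 : ∀ c, 1 ≤ w c := by
    intro c
    obtain ⟨a, rfl⟩ := hf c
    exact Finset.card_pos.2 ⟨a, Finset.mem_filter.2 ⟨Finset.mem_univ _, rfl⟩⟩
  have h2' : ∀ c, c ≠ f a0 → 2 ≤ w c := by
    intro c hc
    obtain ⟨a, rfl⟩ := hf c
    have ha : a ≠ a0 := fun h => hc (by rw [h])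
    obtain ⟨b, hb, hfb⟩ := h2 a ha
    have : ({b, a} : Finset α) ⊆ Finset.univ.filter (fun x => f x = f a) := by
      intro x hx
      simp only [Finset.mem_insert, Finset.mem_singleton] at hx
      rcases hx with rfl | rfl
      · simp [hfb]
      · simp
    calc 2 = ({b, a} : Finset α).card := (Finset.card_pair hb).symm
      _ ≤ _ := Finset.card_le_card this
  have hw0 : w (f a0) = 1 := by
    rw [hw]
    rw [Finset.card_eq_one]
    refine ⟨a0, ?_⟩
    ext x
    simp only [Finset.mem_filter, Finset.mem_univ, true_and, Finset.mem_singleton]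
    exact ⟨fun h => h0 x h, fun h => by rw [h]⟩
  have total : ∑ c, w c = 2 * ∑ _c : β, 1 := by rw [hsum, hcard, hβ]
  have e0 : ∑ c : β, (if c = f a0 then 1 else 0) = 1 := by
    rw [Finset.sum_ite_eq']; simp
  constructor
  · intro a
    rw [hwc]
    by_contra hlt
    push Not at hlt
    have hne : f a ≠ f a0 := by
      intro h; rw [h, hw0] at hlt; omega
    have e1 : ∑ c : β, (if c = f a then 2 else 0) = 2 := by
      rw [Finset.sum_ite_eq']; simp
    have key : ∑ c : β, (2 * 1 + (if c = f a then 2 else 0)) ≤ ∑ c : β, (w c + if c = f a0 then 1 else 0) := by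
      apply Finset.sum_le_sum
      intro c _
      by_cases hca : c = f a
      · rw [if_pos hca, hca, if_neg hne]; omega
      · rw [if_neg hca]
        by_cases hc0 : c = f a0
        · rw [if_pos hc0]; have := h1 c; omega
        · rw [if_neg hc0]; have := h2' c hc0; omega
    rw [Finset.sum_add_distrib, Finset.sum_add_distrib, e1, e0, ← Finset.mul_sum] at key
    omega
  · intro a b ha hb
    rw [hwc] at ha hb
    by_contra hab
    have hne : f a ≠ f a0 := by
      intro h; rw [h, hw0] at ha; omega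
    have hne' : f b ≠ f a0 := by
      intro h; rw [h, hw0] at hb; omega
    have e1 : ∑ c : β, (if c = f a then 1 else 0) = 1 := by
      rw [Finset.sum_ite_eq']; simp
    have e2 : ∑ c : β, (if c = f b then 1 else 0) = 1 := by
      rw [Finset.sum_ite_eq']; simp
    have key : ∑ c : β, (2 * 1 + (if c = f a then 1 else 0) + (if c = f b then 1 else 0)) ≤
        ∑ c : β, (w c + if c = f a0 then 1 else 0) := by
      apply Finset.sum_le_sum
      intro c _
      by_cases hca : c = f a
      · rw [if_pos hca, hca, if_neg hne, if_neg hab]; omega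
      · rw [if_neg hca]
        by_cases hcb : c = f b
        · rw [if_pos hcb, hcb, if_neg hne']; omega
        · rw [if_neg hcb]
          by_cases hc0 : c = f a0
          · rw [if_pos hc0]; have := h1 c; omega
          · rw [if_neg hc0]; have := h2' c hc0; omega
    rw [Finset.sum_add_distrib, Finset.sum_add_distrib, Finset.sum_add_distrib, e1, e2, e0,
      ← Finset.mul_sum] at key
    omega

/-- the classes of 2-elements -/
abbrev K2 (G : Type*) [Group G] : Type _ :=
  {c : ConjClasses G // ∀ x ∈ c.carrier, ∃ k : ℕ, orderOf x = 2 ^ k}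

theorem mk_two {G : Type u} [Group G] {x : G} (h : ∃ k : ℕ, orderOf x = 2 ^ k) :
    ∀ y ∈ (ConjClasses.mk x).carrier, ∃ k : ℕ, orderOf y = 2 ^ k := by
  intro y hy
  rw [ConjClasses.mem_carrier_iff_mk_eq, ConjClasses.mk_eq_mk_iff_isConj] at hy
  obtain ⟨g, hg⟩ := isConj_iff.1 hy.symm
  obtain ⟨k, hk⟩ := h
  refine ⟨k, ?_⟩
  rw [← hg, ← hk]
  exact orderOf_injective (MulAut.conj g).toMonoidHom (MulAut.conj g).injective x

/-- the map from `P` to the classes of 2-elements -/
def cls {G : Type u} [Group G] {T : Subgroup G} (hT : IsPGroup 2 T) (x : T) : K2 G :=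
  ⟨ConjClasses.mk (x : G), mk_two (by
    obtain ⟨k, hk⟩ := (@IsPGroup.iff_orderOf 2 T _ ⟨Nat.prime_two⟩).1 hT x
    exact ⟨k, by rw [Subgroup.orderOf_coe]; exact hk⟩)⟩

theorem cls_eq_iff {G : Type u} [Group G] {T : Subgroup G} (hT : IsPGroup 2 T) (x y : T) :
    cls hT x = cls hT y ↔ ∃ g : G, g * x * g⁻¹ = y := by
  rw [Subtype.ext_iff]
  change ConjClasses.mk (x : G) = ConjClasses.mk (y : G) ↔ _
  rw [ConjClasses.mk_eq_mk_iff_isConj, isConj_iff]

theorem cls_surjective {G : Type u} [Group G] [Finite G] (P : Sylow 2 G) :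
    Function.Surjective (cls P.isPGroup') := by
  have : Fact (Nat.Prime 2) := ⟨Nat.prime_two⟩
  rintro ⟨c, hc⟩
  obtain ⟨x, rfl⟩ := ConjClasses.exists_rep c
  obtain ⟨k, hk⟩ := hc x ConjClasses.mem_carrier_mk
  have hp : IsPGroup 2 (Subgroup.zpowers x) := by
    apply IsPGroup.of_card (n := k)
    rw [Nat.card_zpowers, hk]
  obtain ⟨R, hR⟩ := hp.exists_le_sylow
  obtain ⟨g, hg⟩ := MulAction.exists_smul_eq G R P
  have hxR : x ∈ (R : Subgroup G) := hR (Subgroup.mem_zpowers x)
  have h1 : MulAut.conj g x ∈ MulAut.conj g • (R : Subgroup G) := Subgroup.smul_mem_pointwise_smul _ _ _ hxR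
  have h2 : g * x * g⁻¹ ∈ (P : Subgroup G) := by
    rw [← hg]; exact h1
  refine ⟨⟨g * x * g⁻¹, h2⟩, ?_⟩
  apply Subtype.ext
  change ConjClasses.mk (g * x * g⁻¹) = ConjClasses.mk x
  exact (ConjClasses.mk_eq_mk_iff_isConj.2 (isConj_iff.2 ⟨g, rfl⟩)).symm

end Cfsg.Agent.H474.TwoCount
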