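import Mathlib
import Cfsg.Agent.H474.TwoCount

/-!
# Groups with exactly `|P|/2` classes of 2-elements: the four-group
-/

set_option autoImplicit false
open Cfsg

namespace Cfsg.Agent.H474.TwoFour

universe u

open Subgroup Cfsg.Agent.H474.TwoCount
open scoped Pointwise

/-- all fusion classes have at most three elements, and at most one has three -/
def Good (G : Type u) [Group G] : Prop :=
  ∀ P : Sylow 2 G, (∀ a, Nat.card {b // cls P.isPGroup' b = cls P.isPGroup' a} ≤ 3) ∧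
    (∀ a b, 3 ≤ Nat.card {x // cls P.isPGroup' x = cls P.isPGroup' a} →
      3 ≤ Nat.card {x // cls P.isPGroup' x = cls P.isPGroup' b} → cls P.isPGroup' a = cls P.isPGroup' b)

theorem good_of_center {G : Type u} [Group G] [Finite G] (hO : Cfsg.oddCore G = ⊥)
    (hZ : center G = ⊥) (P0 : Sylow 2 G)
    (hk : 2 * Nat.card {c : ConjClasses G // ∀ x ∈ c.carrier, ∃ k : ℕ, orderOf x = 2 ^ k} =
      Nat.card ↥(P0 : Subgroup G)) : Good G := by
  have : Fact (Nat.Prime 2) := ⟨Nat.prime_two⟩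
  intro P
  have hP : Nat.card ↥(P : Subgroup G) = Nat.card ↥(P0 : Subgroup G) := by
    rw [P.card_eq_multiplicity, P0.card_eq_multiplicity]
  refine count_fibers (cls P.isPGroup') (cls_surjective P) 1 ?_ ?_ ?_
  · intro a ha
    rw [cls_eq_iff] at ha
    obtain ⟨g, hg⟩ := ha
    apply Subtype.ext
    rw [mul_inv_eq_iff_eq_mul] at hg
    simp only [OneMemClass.coe_one, one_mul] at hg ⊢
    exact mul_eq_left.1 hg
  · intro a ha
    by_contra hcon
    push Not at hcon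
    have hc : (a : G) ∈ center G := by
      refine Cfsg.Agent.H474.ZStarElt.mem_center (Nat.card G) G le_rfl hO P a a.2 ?_
      intro g hg
      by_contra hne
      refine hcon ⟨g * a * g⁻¹, hg⟩ (fun h => hne (congrArg Subtype.val h)) ?_
      rw [cls_eq_iff]
      refine ⟨g⁻¹, ?_⟩
      change g⁻¹ * (g * a * g⁻¹) * g⁻¹⁻¹ = a
      group
    rw [hZ, mem_bot] at hc
    exact ha (Subtype.ext hc)
  · rw [hP, ← hk]

variable {G : Type u} [Group G] [Finite G]

theorem card_fiber_ge (P : Sylow 2 G) (a b c d : P) (hab : cls P.isPGroup' b = cls P.isPGroup' a)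
    (hac : cls P.isPGroup' c = cls P.isPGroup' a) (had : cls P.isPGroup' d = cls P.isPGroup' a)
    (h1 : b ≠ c) (h2 : b ≠ d) (h3 : c ≠ d) :
    3 ≤ Nat.card {x // cls P.isPGroup' x = cls P.isPGroup' a} := by
  classical
  have : Fintype G := Fintype.ofFinite G
  have : Fintype {x // cls P.isPGroup' x = cls P.isPGroup' a} := Fintype.ofFinite _
  have hs : ({⟨b, hab⟩, ⟨c, hac⟩, ⟨d, had⟩} : Finset {x // cls P.isPGroup' x = cls P.isPGroup' a}).card = 3 := by
    rw [Finset.card_eq_three]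
    exact ⟨⟨b, hab⟩, ⟨c, hac⟩, ⟨d, had⟩, fun h => h1 (congrArg Subtype.val h),
      fun h => h2 (congrArg Subtype.val h), fun h => h3 (congrArg Subtype.val h), rfl⟩
  rw [← hs, Nat.card_eq_fintype_card]
  exact Finset.card_le_univ _

theorem mem_of_fiber (P : Sylow 2 G) (a b c d : P) (hab : cls P.isPGroup' b = cls P.isPGroup' a)
    (hac : cls P.isPGroup' c = cls P.isPGroup' a) (had : cls P.isPGroup' d = cls P.isPGroup' a)
    (h1 : b ≠ c) (h2 : b ≠ d) (h3 : c ≠ d)
    (hle : Nat.card {x // cls P.isPGroup' x = cls P.isPGroup' a} ≤ 3) (y : P)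
    (hy : cls P.isPGroup' y = cls P.isPGroup' a) : y = b ∨ y = c ∨ y = d := by
  classical
  have : Fintype G := Fintype.ofFinite G
  have : Fintype {x // cls P.isPGroup' x = cls P.isPGroup' a} := Fintype.ofFinite _
  by_contra hcon
  push Not at hcon
  obtain ⟨n1, n2, n3⟩ := hcon
  have hs : ({⟨y, hy⟩, ⟨b, hab⟩, ⟨c, hac⟩, ⟨d, had⟩} : Finset {x // cls P.isPGroup' x = cls P.isPGroup' a}).card = 4 := by
    rw [Finset.card_eq_four]
    exact ⟨⟨y, hy⟩, ⟨b, hab⟩, ⟨c, hac⟩, ⟨d, had⟩, fun h => n1 (congrArg Subtype.val h),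
      fun h => n2 (congrArg Subtype.val h), fun h => n3 (congrArg Subtype.val h),
      fun h => h1 (congrArg Subtype.val h),
      fun h => h2 (congrArg Subtype.val h), fun h => h3 (congrArg Subtype.val h), rfl⟩
  have h4 := Finset.card_le_univ ({⟨y, hy⟩, ⟨b, hab⟩, ⟨c, hac⟩, ⟨d, had⟩} : Finset {x // cls P.isPGroup' x = cls P.isPGroup' a})
  rw [hs, ← Nat.card_eq_fintype_card] at h4
  omega

/-- An odd order element normalizing and not centralizing `Q ≤ P`. -/
theorem four (hG : Good G) (P : Sylow 2 G) {Q : Subgroup G} (hQP : Q ≤ (P : Subgroup G)) {h : G}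
    (hn : h ∈ normalizer (Q : Set G)) (hodd : Nat.Coprime (orderOf h) 2)
    (hc : h ∉ centralizer (Q : Set G)) :
    Nat.card Q = 4 ∧ (∀ x ∈ Q, x ≠ 1 → ∀ g : G, g * x * g⁻¹ ∈ P → g * x * g⁻¹ ∈ Q) ∧
    (∀ x ∈ Q, x ≠ 1 → ∀ y ∈ Q, y ≠ 1 → ∃ g : G, g * x * g⁻¹ = y) ∧
    (∀ x (hx : x ∈ Q), x ≠ 1 →
      3 ≤ Nat.card {b // cls P.isPGroup' b = cls P.isPGroup' (⟨x, hQP hx⟩ : P)}) ∧
    (∀ x ∈ Q, x ≠ 1 → h * x * h⁻¹ ≠ x) := by
  classical
  obtain ⟨g3, gu⟩ := hG P
  have hQ : IsPGroup 2 Q := P.isPGroup'.to_le hQP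
  have hfix := Cfsg.Agent.S3895.four_mul_card_fixed_le hQ hn hodd hc
  have hQ1 : ∀ y ∈ Q, h * y * h⁻¹ ∈ Q := fun y hy => (Subgroup.mem_normalizer_iff.1 hn y).1 hy
  -- the orbit of a non-fixed element
  have key : ∀ x (hx : x ∈ Q), h * x ≠ x * h →
      (∃ b c d : P, cls P.isPGroup' b = cls P.isPGroup' (⟨x, hQP hx⟩ : P) ∧
        cls P.isPGroup' c = cls P.isPGroup' (⟨x, hQP hx⟩ : P) ∧
        cls P.isPGroup' d = cls P.isPGroup' (⟨x, hQP hx⟩ : P) ∧ b ≠ c ∧ b ≠ d ∧ c ≠ d ∧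
        (b : G) ∈ Q ∧ (c : G) ∈ Q ∧ (d : G) ∈ Q) := by
    intro x hxQ hnx
    set x1 := h * x * h⁻¹ with hx1
    set x2 := h * x1 * h⁻¹ with hx2
    have hx1Q : x1 ∈ Q := hQ1 x hxQ
    have hx2Q : x2 ∈ Q := hQ1 x1 hx1Q
    have hne1 : x ≠ x1 := by
      intro e
      apply hnx
      calc h * x = x1 * h := by rw [hx1]; group
        _ = x * h := by rw [← e]
    have hne2 : x1 ≠ x2 := by
      intro e
      apply hne1
      rw [hx2] at e
      have : h⁻¹ * x1 * h = h⁻¹ * (h * x1 * h⁻¹) * h := by rw [← e]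
      calc x = h⁻¹ * x1 * h := by rw [hx1]; group
        _ = h⁻¹ * (h * x1 * h⁻¹) * h := this
        _ = x1 := by group
    have hne3 : x ≠ x2 := by
      intro e
      apply hnx
      have hc2 : Commute (h ^ 2) x := by
        change h ^ 2 * x = x * h ^ 2
        calc h ^ 2 * x = x2 * h ^ 2 := by rw [hx2, hx1, pow_two]; group
          _ = x * h ^ 2 := by rw [← e]
      obtain ⟨m, hm⟩ : ∃ m : ℕ, (h ^ 2) ^ m = h := by
        obtain ⟨m, hm⟩ := exists_pow_eq_self_of_coprime (n := 2) (x := h) hodd.symm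
        exact ⟨m, hm⟩
      have := hc2.pow_left m
      rw [hm] at this
      exact this
    refine ⟨⟨x, hQP hxQ⟩, ⟨x1, hQP hx1Q⟩, ⟨x2, hQP hx2Q⟩, rfl, ?_, ?_,
      fun e => hne1 (congrArg Subtype.val e), fun e => hne3 (congrArg Subtype.val e),
      fun e => hne2 (congrArg Subtype.val e), hxQ, hx1Q, hx2Q⟩
    · rw [cls_eq_iff]
      refine ⟨h⁻¹, ?_⟩
      change h⁻¹ * x1 * h⁻¹⁻¹ = x
      rw [hx1]; group
    · rw [cls_eq_iff]
      refine ⟨(h ^ 2)⁻¹, ?_⟩
      change (h ^ 2)⁻¹ * x2 * (h ^ 2)⁻¹⁻¹ = x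
      rw [hx2, hx1, pow_two]; group
  have hmemc : ∀ x, x ∈ Q ⊓ centralizer ({h} : Set G) ↔ x ∈ Q ∧ h * x = x * h := by
    intro x
    rw [Subgroup.mem_inf, Subgroup.mem_centralizer_singleton_iff]
    constructor
    · rintro ⟨h1, h2⟩; exact ⟨h1, by first | exact h2 | exact h2.symm⟩
    · rintro ⟨h1, h2⟩; exact ⟨h1, by first | exact h2 | exact h2.symm⟩
  have hge : ∀ x (hx : x ∈ Q), h * x ≠ x * h →
      3 ≤ Nat.card {b // cls P.isPGroup' b = cls P.isPGroup' (⟨x, hQP hx⟩ : P)} := by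
    intro x hx hnx
    obtain ⟨b, c, d, e1, e2, e3, n1, n2, n3, -⟩ := key x hx hnx
    exact card_fiber_ge P _ b c d e1 e2 e3 n1 n2 n3
  -- a non-fixed element
  obtain ⟨x0, hx0, hnx0⟩ : ∃ x ∈ Q, h * x ≠ x * h := by
    by_contra hcon
    push Not at hcon
    apply hc
    rw [Subgroup.mem_centralizer_iff]
    intro x hx
    exact (hcon x hx).symm
  obtain ⟨b, c, d, e1, e2, e3, n1, n2, n3, bQ, cQ, dQ⟩ := key x0 hx0 hnx0
  have hall : ∀ x ∈ Q, h * x ≠ x * h → x = b ∨ x = c ∨ x = d := by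
    intro x hx hnx
    have h1 := gu ⟨x, hQP hx⟩ ⟨x0, hQP hx0⟩ (hge x hx hnx) (hge x0 hx0 hnx0)
    have h2 := mem_of_fiber P _ b c d e1 e2 e3 n1 n2 n3 (g3 _) ⟨x, hQP hx⟩ h1
    rcases h2 with h2 | h2 | h2
    · left; exact congrArg Subtype.val h2
    · right; left; exact congrArg Subtype.val h2
    · right; right; exact congrArg Subtype.val h2
  -- counting
  have hcount : Nat.card Q ≤ Nat.card ↥(Q ⊓ centralizer ({h} : Set G)) + 3 := by
    have : Fintype G := Fintype.ofFinite G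
    have h1 : Nat.card Q = (Finset.univ.filter (· ∈ Q) : Finset G).card := by
      rw [Nat.card_eq_fintype_card, Fintype.card_subtype]
    have h2 : Nat.card ↥(Q ⊓ centralizer ({h} : Set G)) =
        (Finset.univ.filter (· ∈ Q ⊓ centralizer ({h} : Set G)) : Finset G).card := by
      rw [Nat.card_eq_fintype_card, Fintype.card_subtype]
    rw [h1, h2]
    have hsub : (Finset.univ.filter (· ∈ Q) : Finset G) ⊆
        (Finset.univ.filter (· ∈ Q ⊓ centralizer ({h} : Set G)) : Finset G) ∪ {(b : G), (c : G), (d : G)} := by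
      intro x hx
      simp only [Finset.mem_filter, Finset.mem_univ, true_and] at hx
      rw [Finset.mem_union]
      by_cases hcx : h * x = x * h
      · left
        simp only [Finset.mem_filter, Finset.mem_univ, true_and]
        exact (hmemc x).2 ⟨hx, hcx⟩
      · right
        simpa using hall x hx hcx
    calc _ ≤ _ := Finset.card_le_card hsub
      _ ≤ _ + ({(b : G), (c : G), (d : G)} : Finset G).card := Finset.card_union_le _ _
      _ ≤ _ := by
        have := Finset.card_le_three (a := (b : G)) (b := c) (c := d)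
        omega
  have hpos : 0 < Nat.card ↥(Q ⊓ centralizer ({h} : Set G)) := Nat.card_pos
  have hc4 : Nat.card Q = 4 := by omega
  have hc1 : Nat.card ↥(Q ⊓ centralizer ({h} : Set G)) = 1 := by omega
  have hbot : Q ⊓ centralizer ({h} : Set G) = ⊥ := Subgroup.card_eq_one.1 hc1
  have hnf : ∀ x ∈ Q, x ≠ 1 → h * x ≠ x * h := by
    intro x hx hx1 hxx
    apply hx1
    rw [← Subgroup.mem_bot, ← hbot]
    exact (hmemc x).2 ⟨hx, hxx⟩
  refine ⟨hc4, ?_, ?_, ?_, ?_⟩
  · intro x hx hx1 g hgP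
    have hxn := hnf x hx hx1
    obtain ⟨b', c', d', e1', e2', e3', n1', n2', n3', bQ', cQ', dQ'⟩ := key x hx hxn
    have h2 := mem_of_fiber P _ b' c' d' e1' e2' e3' n1' n2' n3' (g3 _) ⟨g * x * g⁻¹, hgP⟩ (by
      rw [cls_eq_iff]
      refine ⟨g⁻¹, ?_⟩
      change g⁻¹ * (g * x * g⁻¹) * g⁻¹⁻¹ = x
      group)
    rcases h2 with h2 | h2 | h2
    · have := congrArg Subtype.val h2
      rw [show g * x * g⁻¹ = (b' : G) from this]; exact bQ'
    · have := congrArg Subtype.val h2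
      rw [show g * x * g⁻¹ = (c' : G) from this]; exact cQ'
    · have := congrArg Subtype.val h2
      rw [show g * x * g⁻¹ = (d' : G) from this]; exact dQ'
  · intro x hx hx1 y hy hy1
    have := gu ⟨x, hQP hx⟩ ⟨y, hQP hy⟩ (hge x hx (hnf x hx hx1)) (hge y hy (hnf y hy hy1))
    rw [cls_eq_iff] at this
    exact this
  · intro x hx hx1
    exact hge x hx (hnf x hx hx1)
  · intro x hx hx1 hxx
    exact hnf x hx hx1 (by rw [mul_inv_eq_iff_eq_mul] at hxx; exact hxx)

end Cfsg.Agent.H474.TwoFour
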