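import Mathlib
import Cfsg.Agent.H474.TwoFour

/-!
# A refinement of Frobenius' criterion: Sylow subgroups of the centralizer
-/

set_option autoImplicit false
open Cfsg
open scoped Pointwise

namespace Cfsg.Agent.H474.TwoPair

/-- From Frobenius' criterion to a pair as in the counting argument. -/
theorem exists_pair' {G : Type*} [Group G] [Finite G] {Q : Subgroup G} (hQ : IsPGroup 2 Q) {g : G}
    (hg : g ∈ Subgroup.normalizer (Q : Set G)) (hodd : Nat.Coprime (orderOf g) 2)
    (hc : g ∉ Subgroup.centralizer (Q : Set G)) :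
    ∃ (P : Sylow 2 G) (Q₁ : Subgroup G) (h : G), Q₁ ≤ (P : Subgroup G) ∧
      (∀ T : Subgroup G, T ≤ Subgroup.centralizer (Q : Set G) → IsPGroup 2 T → Nat.card T ≤ Nat.card Q₁) ∧
      h ∈ Subgroup.normalizer (Q₁ : Set G) ∧ Nat.Coprime (orderOf h) 2 ∧
      h ∉ Subgroup.centralizer (Q₁ : Set G) := by
  classical
  have : Fact (Nat.Prime 2) := ⟨Nat.prime_two⟩
  set C : Subgroup G := Subgroup.centralizer (Q : Set G) with hCdef
  -- a Sylow 2-subgroup of `C`
  obtain ⟨R⟩ : Nonempty (Sylow 2 ↥C) := inferInstance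
  set R' : Subgroup G := (R : Subgroup ↥C).map C.subtype with hR'
  have hR'C : R' ≤ C := Subgroup.map_subtype_le _
  have hR'p : IsPGroup 2 R' := R.isPGroup'.map _
  have hCg : ∀ x ∈ C, g * x * g⁻¹ ∈ C := by
    intro x hx
    rw [hCdef, Subgroup.mem_centralizer_iff] at hx ⊢
    intro q hq
    have h1 : g⁻¹ * q * g ∈ Q := by
      have := (Subgroup.mem_normalizer_iff.1 (inv_mem hg) q).1 hq
      simpa using this
    have h2 := hx _ h1
    calc q * (g * x * g⁻¹) = g * ((g⁻¹ * q * g) * x) * g⁻¹ := by group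
      _ = g * (x * (g⁻¹ * q * g)) * g⁻¹ := by rw [h2]
      _ = (g * x * g⁻¹) * q := by group
  -- the maximality of `R'`
  have hmax : ∀ T : Subgroup G, IsPGroup 2 T → T ≤ C → R' ≤ T → T = R' := by
    intro T hT hTC hRT
    have h1 : IsPGroup 2 (T.subgroupOf C) := hT.comap_subtype
    have h2 : (R : Subgroup ↥C) ≤ T.subgroupOf C := by
      intro x hx
      exact Subgroup.mem_subgroupOf.2 (hRT (Subgroup.mem_map.2 ⟨x, hx, rfl⟩))
    have h3 := R.is_maximal' h1 h2
    have h4 : (T.subgroupOf C).map C.subtype = T := Subgroup.map_subgroupOf_eq_of_le hTC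
    rw [← h4, h3]
  -- conj by g
  set T : Subgroup G := R'.map (MulAut.conj g).toMonoidHom with hTdef
  have hTC : T ≤ C := by
    rintro _ ⟨x, hx, rfl⟩
    exact hCg x (hR'C hx)
  have hTp : IsPGroup 2 T := hR'p.map _
  have hcardT : Nat.card ↥T = Nat.card ↥R' :=
    Nat.card_congr (R'.equivMapOfInjective _ (MulAut.conj g).injective).toEquiv.symm
  have hcardR : Nat.card ↥R' = Nat.card ↥(R : Subgroup ↥C) :=
    Nat.card_congr ((R : Subgroup ↥C).equivMapOfInjective _ C.subtype_injective).toEquiv.symm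
  obtain ⟨R2, hR2⟩ := (hTp.comap_subtype (K := C)).exists_le_sylow
  have hR2eq : T.subgroupOf C = (R2 : Subgroup ↥C) := by
    refine Subgroup.eq_of_le_of_card_ge hR2 ?_
    change Nat.card ↥(R2 : Subgroup ↥C) ≤ Nat.card ↥(T.subgroupOf C)
    have e1 : Nat.card ↥(R2 : Subgroup ↥C) = Nat.card ↥(R : Subgroup ↥C) := by
      rw [R2.card_eq_multiplicity, R.card_eq_multiplicity]
    have e2 : Nat.card ↥(T.subgroupOf C) = Nat.card ↥T :=
      Nat.card_congr (Subgroup.subgroupOfEquivOfLe hTC).toEquiv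
    rw [e1, e2, hcardT, hcardR]
  obtain ⟨c, hc2⟩ := MulAction.exists_smul_eq ↥C R2 R
  -- h0 = c * g normalizes R'
  have hT2 : ∀ x ∈ R', ((c : G) * g) * x * ((c : G) * g)⁻¹ ∈ R' := by
    intro x hx
    have h1 : g * x * g⁻¹ ∈ T := Subgroup.mem_map.2 ⟨x, hx, rfl⟩
    have h2 : (⟨g * x * g⁻¹, hTC h1⟩ : ↥C) ∈ (R2 : Subgroup ↥C) := by
      rw [← hR2eq]; exact Subgroup.mem_subgroupOf.2 h1
    have h3 : MulAut.conj c ⟨g * x * g⁻¹, hTC h1⟩ ∈ MulAut.conj c • (R2 : Subgroup ↥C) :=
      Subgroup.smul_mem_pointwise_smul _ _ _ h2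
    have h4 : MulAut.conj c ⟨g * x * g⁻¹, hTC h1⟩ ∈ (R : Subgroup ↥C) := by
      rw [← hc2]; exact h3
    have h5 := Subgroup.mem_map_of_mem C.subtype h4
    rw [← hR'] at h5
    have h6 : C.subtype (MulAut.conj c ⟨g * x * g⁻¹, hTC h1⟩) = ((c : G) * g) * x * ((c : G) * g)⁻¹ := by
      simp only [MulAut.conj_apply, Subgroup.coe_subtype, Subgroup.coe_mul, Subgroup.coe_inv]
      group
    rw [h6] at h5
    exact h5
  set h0 : G := (c : G) * g with hh0
  have hcC : (c : G) ∈ C := c.2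
  have hact : ∀ q ∈ Q, h0 * q * h0⁻¹ = g * q * g⁻¹ := by
    intro q hq
    have hq' : g * q * g⁻¹ ∈ Q := (Subgroup.mem_normalizer_iff.1 hg q).1 hq
    have := Subgroup.mem_centralizer_iff.1 hcC _ hq'
    calc h0 * q * h0⁻¹ = (c : G) * (g * q * g⁻¹) * (c : G)⁻¹ := by rw [hh0]; group
      _ = ((g * q * g⁻¹) * (c : G)) * (c : G)⁻¹ := by rw [this]
      _ = g * q * g⁻¹ := by group
  have hactn : ∀ n : ℕ, ∀ q ∈ Q, h0 ^ n * q * (h0 ^ n)⁻¹ = g ^ n * q * (g ^ n)⁻¹ := by
    intro n
    induction n with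
    | zero => intro q hq; simp
    | succ n ih =>
      intro q hq
      have hq' : g ^ n * q * (g ^ n)⁻¹ ∈ Q := (Subgroup.mem_normalizer_iff.1 (pow_mem hg n) q).1 hq
      calc h0 ^ (n + 1) * q * (h0 ^ (n + 1))⁻¹ = h0 * (h0 ^ n * q * (h0 ^ n)⁻¹) * h0⁻¹ := by
            rw [pow_succ']; group
        _ = h0 * (g ^ n * q * (g ^ n)⁻¹) * h0⁻¹ := by rw [ih q hq]
        _ = g * (g ^ n * q * (g ^ n)⁻¹) * g⁻¹ := hact _ hq'
        _ = g ^ (n + 1) * q * (g ^ (n + 1))⁻¹ := by rw [pow_succ']; group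
  -- the odd part of h0
  obtain ⟨a, m, hm, ham⟩ := Nat.exists_eq_two_pow_mul_odd (n := orderOf h0) (orderOf_pos h0).ne'
  set h : G := h0 ^ (2 ^ a) with hhdef
  have hord : orderOf h = m := by
    rw [hhdef, orderOf_pow, ham]
    have : Nat.gcd (2 ^ a * m) (2 ^ a) = 2 ^ a := Nat.gcd_mul_right_left _ _
    rw [this]
    exact Nat.mul_div_cancel_left _ (by positivity)
  have hoddh : Nat.Coprime (orderOf h) 2 := by
    rw [hord]; exact hm.coprime_two_right
  have hnotc : ¬ ∀ q ∈ Q, h * q = q * h := by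
    intro hall
    apply hc
    rw [hCdef, Subgroup.mem_centralizer_iff]
    intro q hq
    have h1 := hactn (2 ^ a) q hq
    have h2 : h0 ^ (2 ^ a) * q * (h0 ^ (2 ^ a))⁻¹ = q := by
      rw [mul_inv_eq_iff_eq_mul]; exact hall q hq
    rw [h2] at h1
    have h3 : Commute (g ^ (2 ^ a)) q := by
      change g ^ (2 ^ a) * q = q * g ^ (2 ^ a)
      rw [eq_comm, mul_inv_eq_iff_eq_mul] at h1
      exact h1
    obtain ⟨k, hk⟩ := exists_pow_eq_self_of_coprime (n := 2 ^ a) (x := g)
      (Nat.Coprime.pow_left a hodd.symm)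
    have h4 := h3.pow_left k
    rw [hk] at h4
    exact h4.eq.symm
  -- the subgroup Q₁ = R' ⊔ Q
  have hR'N : R' ≤ Subgroup.normalizer (Q : Set G) :=
    hR'C.trans (Subgroup.centralizer_le_normalizer _)
  have hQ1p : IsPGroup 2 ↥(R' ⊔ Q : Subgroup G) := hR'p.to_sup_of_normal_right' hQ hR'N
  obtain ⟨P, hP⟩ := hQ1p.exists_le_sylow
  have hnormR' : h0 ∈ Subgroup.normalizer (R' : Set G) := by
    have hle : R'.map (MulAut.conj h0).toMonoidHom ≤ R' := by
      rintro _ ⟨x, hx, rfl⟩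
      exact hT2 x hx
    have hcard : Nat.card ↥(R'.map (MulAut.conj h0).toMonoidHom) = Nat.card ↥R' :=
      Nat.card_congr (R'.equivMapOfInjective _ (MulAut.conj h0).injective).toEquiv.symm
    have heq : R'.map (MulAut.conj h0).toMonoidHom = R' :=
      Subgroup.eq_of_le_of_card_ge hle hcard.ge
    rw [Subgroup.mem_normalizer_iff]
    intro x
    constructor
    · intro hx; exact hT2 x hx
    · intro hx
      rw [← heq] at hx
      obtain ⟨y, hy, hy2⟩ := hx
      have : y = x := by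
        have h5 : h0 * y * h0⁻¹ = h0 * x * h0⁻¹ := hy2
        exact mul_left_cancel (mul_right_cancel h5)
      rw [← this]; exact hy
  have hgN : h0 ∈ Subgroup.normalizer (Q : Set G) :=
    mul_mem (Subgroup.centralizer_le_normalizer _ hcC) hg
  refine ⟨P, R' ⊔ Q, h, hP, ?_, ?_, hoddh, ?_⟩
  · intro T' hT'C hT'p
    obtain ⟨R3, hR3⟩ := (hT'p.comap_subtype (K := C)).exists_le_sylow
    have e0 : Nat.card ↥(T'.subgroupOf C) = Nat.card ↥T' :=
      Nat.card_congr (Subgroup.subgroupOfEquivOfLe hT'C).toEquiv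
    have e1 : Nat.card ↥(T'.subgroupOf C) ≤ Nat.card ↥(R3 : Subgroup ↥C) :=
      Subgroup.card_le_of_le hR3
    have e2 : Nat.card ↥(R3 : Subgroup ↥C) = Nat.card ↥(R : Subgroup ↥C) := by
      rw [R3.card_eq_multiplicity, R.card_eq_multiplicity]
    have e3 : Nat.card ↥R' ≤ Nat.card ↥(R' ⊔ Q : Subgroup G) :=
      Subgroup.card_le_of_le le_sup_left
    omega
  · apply pow_mem
    have hmap : (R' ⊔ Q).map (MulAut.conj h0).toMonoidHom = R' ⊔ Q := by
      rw [Subgroup.map_sup]
      congr 1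
      · ext x
        constructor
        · rintro ⟨y, hy, rfl⟩
          exact (Subgroup.mem_normalizer_iff.1 hnormR' y).1 hy
        · intro hx
          refine ⟨h0⁻¹ * x * h0, ?_, ?_⟩
          · have := (Subgroup.mem_normalizer_iff.1 (inv_mem hnormR') x).1 hx
            simpa using this
          · change h0 * (h0⁻¹ * x * h0) * h0⁻¹ = x
            group
      · ext x
        constructor
        · rintro ⟨y, hy, rfl⟩
          exact (Subgroup.mem_normalizer_iff.1 hgN y).1 hy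
        · intro hx
          refine ⟨h0⁻¹ * x * h0, ?_, ?_⟩
          · have := (Subgroup.mem_normalizer_iff.1 (inv_mem hgN) x).1 hx
            simpa using this
          · change h0 * (h0⁻¹ * x * h0) * h0⁻¹ = x
            group
    rw [Subgroup.mem_normalizer_iff]
    intro x
    constructor
    · intro hx
      rw [← SetLike.mem_coe, ← hmap]
      exact ⟨x, hx, rfl⟩
    · intro hx
      rw [← SetLike.mem_coe, ← hmap] at hx
      obtain ⟨y, hy, hy2⟩ := hx
      have : y = x := by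
        have h5 : h0 * y * h0⁻¹ = h0 * x * h0⁻¹ := hy2
        exact mul_left_cancel (mul_right_cancel h5)
      rw [← this]; exact hy
  · intro hcent
    apply hnotc
    intro q hq
    exact (Subgroup.mem_centralizer_iff.1 hcent q (Subgroup.mem_sup_right hq)).symm


end Cfsg.Agent.H474.TwoPair
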