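import Mathlib
import Cfsg.Agent.H474.TwoPair
import Cfsg.Agent.TwoFusion.IndexTwoOrSix
import Cfsg.Agent.TwoFusion.IsolatedCenter

/-!
# Groups with exactly `|P|/2` classes of 2-elements: the frame and the solvable case
-/

set_option autoImplicit false
open Cfsg

namespace Cfsg.Agent.H474.TwoFrame

universe u

open Subgroup Cfsg.Agent.H474.TwoCount Cfsg.Agent.H474.TwoFour
open scoped Pointwise

/-- the four-group `V` of the Sylow 2-subgroup `P` -/
structure Frame {G : Type u} [Group G] (P : Sylow 2 G) (V : Subgroup G) (h : G) : Prop where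
  le : V ≤ (P : Subgroup G)
  card : Nat.card V = 4
  nrm : ∀ x ∈ P, ∀ v ∈ V, x * v * x⁻¹ ∈ V
  closed : ∀ v ∈ V, ∀ g : G, g * v * g⁻¹ ∈ P → g * v * g⁻¹ ∈ V
  trans : ∀ x ∈ V, x ≠ 1 → ∀ y ∈ V, y ≠ 1 → ∃ g : G, g * x * g⁻¹ = y
  cent : ∀ x ∈ P, (∀ v ∈ V, x * v = v * x) → x ∈ V
  fib : ∀ x (hx : x ∈ P), x ∉ V → Nat.card {b // cls P.isPGroup' b = cls P.isPGroup' (⟨x, hx⟩ : P)} ≤ 2
  hV : h ∈ normalizer (V : Set G)
  hodd : Nat.Coprime (orderOf h) 2
  hmv : ∀ x ∈ V, x ≠ 1 → h * x * h⁻¹ ≠ x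

variable {G : Type u} [Group G] [Finite G]

theorem exists_frame (hG : Good G) (hn : ¬ HasNormalPComplement 2 G) :
    ∃ (P : Sylow 2 G) (V : Subgroup G) (h : G), Frame P V h := by
  have : Fact (Nat.Prime 2) := ⟨Nat.prime_two⟩
  obtain ⟨P⟩ : Nonempty (Sylow 2 G) := inferInstance
  have hnot2 : ¬ ∃ N : Subgroup G, N.Normal ∧ N.IsComplement' (P : Subgroup G) := by
    rintro ⟨N, h1, h2⟩
    exact hn ⟨P, N, h1, h2⟩
  rw [Cfsg.Agent.S0071.result P] at hnot2
  push Not at hnot2
  obtain ⟨Q, hQP, g, hg, hodd, hgc⟩ := hnot2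
  obtain ⟨P', Q₁, h, k1, k2, k3, k4, k5⟩ :=
    Cfsg.Agent.H474.TwoPair.exists_pair' (P.isPGroup'.to_le hQP) hg hodd hgc
  obtain ⟨c4, f1, f2, f3, f4⟩ := four hG P hQP hg hodd hgc
  obtain ⟨c4', -⟩ := four hG P' k1 k3 k4 k5
  refine ⟨P, Q, g, hQP, c4, ?_, ?_, f2, ?_, ?_, hg, hodd, f4⟩
  · intro x hx v hv
    by_cases h1 : v = 1
    · rw [h1]; simp
    · exact f1 v hv h1 x (mul_mem (mul_mem hx (hQP hv)) (inv_mem hx))
  · intro v hv g' hg'
    by_cases h1 : v = 1
    · rw [h1]; simp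
    · exact f1 v hv h1 g' hg'
  · -- the centralizer of Q in P
    have hQc : Q ≤ centralizer (Q : Set G) := by
      have hab : ∀ a b : Q, a * b = b * a := by
        have h22 : Nat.card Q = 2 ^ 2 := by rw [c4]; norm_num
        exact fun a b => (IsPGroup.isMulCommutative_of_card_eq_prime_sq h22).is_comm.comm a b
      intro a ha
      rw [mem_centralizer_iff]
      intro b hb
      exact congrArg Subtype.val (hab ⟨b, hb⟩ ⟨a, ha⟩)
    have h1 : IsPGroup 2 ((P : Subgroup G) ⊓ centralizer (Q : Set G) : Subgroup G) :=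
      P.isPGroup'.to_le inf_le_left
    have h2 := k2 _ inf_le_right h1
    have h3 : Q = (P : Subgroup G) ⊓ centralizer (Q : Set G) := by
      refine eq_of_le_of_card_ge (le_inf hQP hQc) ?_
      rw [c4, ← c4']; exact h2
    intro x hx hxc
    rw [h3]
    exact ⟨hx, mem_centralizer_iff.2 (fun v hv => (hxc v hv).symm)⟩
  · intro x hx hxV
    by_contra hlt
    push Not at hlt
    -- nontrivial element of Q
    obtain ⟨v, hv, hv1⟩ : ∃ v ∈ Q, v ≠ 1 := by
      by_contra hcon
      push Not at hcon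
      have : Q = ⊥ := (eq_bot_iff_forall Q).2 hcon
      rw [this, card_bot] at c4
      omega
    have h1 := (hG P).2 ⟨v, hQP hv⟩ ⟨x, hx⟩ (f3 v hv hv1) (by omega)
    rw [cls_eq_iff] at h1
    obtain ⟨g', hg'⟩ := h1
    apply hxV
    have h2 := f1 v hv hv1 g' (by
      change g' * v * g'⁻¹ ∈ P
      have : g' * v * g'⁻¹ = x := hg'
      rw [this]; exact hx)
    have : g' * v * g'⁻¹ = x := hg'
    rw [this] at h2
    exact h2

omit [Finite G] in
/-- a subgroup normalizing a group of order four -/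
theorem card_dvd_of_normalizes {V N : Subgroup G} (hV : Nat.card V = 4)
    (hN : N ≤ normalizer (V : Set G)) :
    Nat.card N ∣ Nat.card ↥(N ⊓ centralizer (V : Set G)) * 6 := by
  let f : N →* MulAut V := V.normalizerMonoidHom.comp (inclusion hN)
  have h1 : Nat.card N = Nat.card f.ker * Nat.card f.range := by
    have := Subgroup.card_eq_card_quotient_mul_card_subgroup f.ker
    rw [Nat.card_congr (QuotientGroup.quotientKerEquivRange f).toEquiv] at this
    rw [this, mul_comm]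
  have h2 : Nat.card f.range ∣ 6 := by
    have h3 := Subgroup.card_subgroup_dvd_card f.range
    exact h3.trans (Cfsg.Agent.TwoFusion.IndexTwoOrSix.card_mulAut_dvd_six hV)
  have h3 : Nat.card f.ker = Nat.card ↥(N ⊓ centralizer (V : Set G)) := by
    have h4 : f.ker = (N ⊓ centralizer (V : Set G)).subgroupOf N := by
      ext x
      rw [MonoidHom.mem_ker, mem_subgroupOf, mem_inf]
      constructor
      · intro hx
        refine ⟨x.2, ?_⟩
        rw [mem_centralizer_iff]
        intro v hv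
        have := congrArg Subtype.val (DFunLike.congr_fun hx ⟨v, hv⟩)
        have h5 : (x : G) * v * (x : G)⁻¹ = v := this
        rw [mul_inv_eq_iff_eq_mul] at h5
        exact h5.symm
      · rintro ⟨-, hx⟩
        rw [mem_centralizer_iff] at hx
        ext v
        have h5 := hx v.1 v.2
        change (x : G) * (v : G) * (x : G)⁻¹ = (v : G)
        rw [mul_inv_eq_iff_eq_mul]
        exact h5.symm
    rw [h4]
    exact Nat.card_congr (subgroupOfEquivOfLe inf_le_left).toEquiv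
  rw [h1, h3]
  exact Nat.mul_dvd_mul_left _ h2

namespace Frame

variable {P : Sylow 2 G} {V : Subgroup G} {h : G}

theorem comm (F : Frame P V h) : ∀ a ∈ V, ∀ b ∈ V, a * b = b * a := by
  have : Fact (Nat.Prime 2) := ⟨Nat.prime_two⟩
  have h22 : Nat.card V = 2 ^ 2 := by rw [F.card]; norm_num
  have hab : ∀ a b : V, a * b = b * a :=
    fun a b => (IsPGroup.isMulCommutative_of_card_eq_prime_sq h22).is_comm.comm a b
  intro a ha b hb
  exact congrArg Subtype.val (hab ⟨a, ha⟩ ⟨b, hb⟩)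

theorem inf_centralizer (F : Frame P V h) : (P : Subgroup G) ⊓ centralizer (V : Set G) = V := by
  apply le_antisymm
  · rintro x ⟨hx, hxc⟩
    exact F.cent x hx (fun v hv => (mem_centralizer_iff.1 hxc v hv).symm)
  · intro v hv
    exact ⟨F.le hv, mem_centralizer_iff.2 (fun w hw => F.comm w hw v hv)⟩

theorem le_normalizer (F : Frame P V h) : (P : Subgroup G) ≤ normalizer (V : Set G) := by
  intro x hx
  rw [mem_normalizer_iff]
  intro v
  constructor
  · exact F.nrm x hx v
  · intro hv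
    have := F.nrm x⁻¹ (inv_mem hx) _ hv
    have e : x⁻¹ * (x * v * x⁻¹) * x⁻¹⁻¹ = v := by group
    rwa [e] at this

theorem card_P (F : Frame P V h) : Nat.card (P : Subgroup G) = 4 ∨ Nat.card (P : Subgroup G) = 8 := by
  have : Fact (Nat.Prime 2) := ⟨Nat.prime_two⟩
  have h1 := card_dvd_of_normalizes F.card F.le_normalizer
  rw [F.inf_centralizer, F.card] at h1
  obtain ⟨k, hk⟩ := IsPGroup.iff_card.1 P.isPGroup'
  have h2 : Nat.card V ∣ Nat.card (P : Subgroup G) := card_dvd_of_le F.le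
  rw [F.card] at h2
  rw [hk] at h1 h2 ⊢
  have h3 : 2 ^ k ∣ 2 ^ 3 := by
    have h4 : Nat.Coprime (2 ^ k) 3 := Nat.Coprime.pow_left _ (by norm_num)
    have h5 : 2 ^ k ∣ 2 ^ 3 * 3 := by norm_num at h1 ⊢; exact h1
    exact h4.dvd_of_dvd_mul_right h5
  have h4 : k ≤ 3 := (Nat.pow_dvd_pow_iff_le_right (by norm_num)).1 h3
  have h5 : 2 ^ 2 ∣ 2 ^ k := by norm_num at h2 ⊢; exact h2
  have h6 : 2 ≤ k := (Nat.pow_dvd_pow_iff_le_right (by norm_num)).1 h5
  interval_cases k
  · left; norm_num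
  · right; norm_num

theorem exists_ne_one (F : Frame P V h) : ∃ v ∈ V, v ≠ 1 := by
  by_contra hcon
  push Not at hcon
  have : V = ⊥ := (eq_bot_iff_forall V).2 hcon
  have h4 := F.card
  rw [this, card_bot] at h4
  omega

end Frame

end Cfsg.Agent.H474.TwoFrame
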