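import Mathlib

/-!
# The number of classes of a finite 2-group is not half its order
-/

set_option autoImplicit false

namespace Cfsg.Agent.H474.TwoMod3

/-- `k(G)|G| ≡ 1 (mod 3)` for a group without elements of order 3. -/
theorem card_conjClasses_mul_card_modEq {G : Type*} [Group G] [Finite G] (h3 : ∀ x : G, x ^ 3 = 1 → x = 1) :
    Nat.card (ConjClasses G) * Nat.card G ≡ 1 [MOD 3] := by
  classical
  have h3f : Fact (Nat.Prime 3) := ⟨Nat.prime_three⟩
  rw [← card_comm_eq_card_conjClasses_mul_card]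
  let α := { p : G × G // Commute p.1 p.2 }
  have : Fintype α := Fintype.ofFinite α
  let f : Function.End α := fun p => ⟨(p.1.2, (p.1.1 * p.1.2)⁻¹), by
    have h := p.2
    change Commute p.1.2 (p.1.1 * p.1.2)⁻¹
    exact (h.symm.mul_right (Commute.refl _)).inv_right⟩
  have hf : f ^ 3 ^ 1 = 1 := by
    funext p
    apply Subtype.ext
    obtain ⟨⟨x, y⟩, hxy⟩ := p
    have hxy' : x * y = y * x := hxy
    change (((x * y)⁻¹, (y * (x * y)⁻¹)⁻¹).2, (((x * y)⁻¹, (y * (x * y)⁻¹)⁻¹).1 * ((x * y)⁻¹, (y * (x * y)⁻¹)⁻¹).2)⁻¹) = (x, y)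
    ext
    · change (y * (x * y)⁻¹)⁻¹ = x
      group
    · change ((x * y)⁻¹ * (y * (x * y)⁻¹)⁻¹)⁻¹ = y
      calc ((x * y)⁻¹ * (y * (x * y)⁻¹)⁻¹)⁻¹ = x⁻¹ * (x * y) := by group
        _ = y := by group
  have h1 := Equiv.Perm.card_fixedPoints_modEq (p := 3) (n := 1) hf
  rw [← Nat.card_eq_fintype_card, ← Nat.card_eq_fintype_card] at h1
  have h2 : Nat.card ↥(Function.fixedPoints f) = 1 := by
    rw [Nat.card_eq_one_iff_unique]
    constructor
    · constructor
      have key : ∀ a : Function.fixedPoints f, a.1.1 = (1, 1) := by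
        rintro ⟨⟨⟨x, y⟩, hxy⟩, ha⟩
        have ha' : f ⟨⟨x, y⟩, hxy⟩ = ⟨⟨x, y⟩, hxy⟩ := ha
        have h4 := congrArg Subtype.val ha'
        have h5 : y = x := congrArg Prod.fst h4
        have h6 : (x * y)⁻¹ = y := congrArg Prod.snd h4
        subst h5
        have h7 : y ^ 3 = 1 := by
          calc y ^ 3 = (y * y) * y := by rw [pow_three, mul_assoc]
            _ = (y * y) * (y * y)⁻¹ := by rw [h6]
            _ = 1 := mul_inv_cancel _
        have h8 := h3 y h7
        change (y, y) = (1, 1)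
        rw [h8]
      intro a b
      apply Subtype.ext
      apply Subtype.ext
      rw [key a, key b]
    · refine ⟨⟨⟨(1, 1), Commute.refl _⟩, ?_⟩⟩
      change f ⟨(1, 1), _⟩ = ⟨(1, 1), _⟩
      apply Subtype.ext
      change ((1 : G), ((1 : G) * 1)⁻¹) = (1, 1)
      simp
  rw [h2] at h1
  exact h1

theorem card_ne {G : Type*} [Group G] [Finite G] (hG : IsPGroup 2 G) :
    Nat.card G ≠ 2 * Nat.card (ConjClasses G) := by
  intro h
  have h3 : ∀ x : G, x ^ 3 = 1 → x = 1 := by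
    intro x hx
    obtain ⟨k, hk⟩ := hG x
    have h1 := orderOf_dvd_of_pow_eq_one hx
    have h2 := orderOf_dvd_of_pow_eq_one hk
    have h4 : Nat.Coprime 3 (2 ^ k) := Nat.Coprime.pow_right _ (by norm_num)
    have h5 := Nat.dvd_gcd h1 h2
    rw [Nat.coprime_iff_gcd_eq_one.1 h4] at h5
    exact orderOf_eq_one_iff.1 (Nat.dvd_one.1 h5)
  have h1 := card_conjClasses_mul_card_modEq h3
  rw [h] at h1
  generalize Nat.card (ConjClasses G) = k at h1
  have h2 : k * (2 * k) % 3 = 1 := h1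
  have h4 : k % 3 = 0 ∨ k % 3 = 1 ∨ k % 3 = 2 := by omega
  rw [Nat.mul_mod, Nat.mul_mod 2 k] at h2
  rcases h4 with h4 | h4 | h4 <;> rw [h4] at h2 <;> norm_num at h2

end Cfsg.Agent.H474.TwoMod3
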