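import Mathlib
import Cfsg.Agent.H474.TwoFrame
import Cfsg.Agent.GTwoFour.Tools

/-!
# Groups with exactly `|P|/2` classes of 2-elements: the case of a normal four-group
-/

set_option autoImplicit false
open Cfsg

namespace Cfsg.Agent.H474.TwoSolv

universe u

open Subgroup Cfsg.Agent.H474.TwoCount Cfsg.Agent.H474.TwoFour Cfsg.Agent.H474.TwoFrame
open scoped Pointwise

variable {G : Type u} [Group G] [Finite G]
variable {P : Sylow 2 G} {V : Subgroup G} {h : G}

/-- If `O_2(G) ≠ 1` then `V` is normal. -/
theorem normal_of_pCore (F : Frame P V h) (hR : pCore 2 G ≠ ⊥) : V.Normal := by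
  have : Fact (Nat.Prime 2) := ⟨Nat.prime_two⟩
  have hRP : pCore 2 G ≤ (P : Subgroup G) := Cfsg.Agent.Lib.Cores.pCore_le_sylow P
  have hRn : (pCore 2 G).Normal := Cfsg.Agent.Lib.Cores.pCore_normal 2
  have hRn' : ((pCore 2 G).subgroupOf (P : Subgroup G)).Normal := inferInstance
  have hR' : (pCore 2 G).subgroupOf (P : Subgroup G) ≠ ⊥ := by
    intro h0
    apply hR
    rw [subgroupOf_eq_bot] at h0
    exact h0.eq_bot_of_le hRP
  obtain ⟨z, hz, hzc, hz1⟩ := Cfsg.Agent.GTwoFour.Tools.exists_mem_center_of_normal P.isPGroup' _ hR'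
  rw [mem_subgroupOf] at hz
  have hzV : (z : G) ∈ V := by
    apply F.cent _ z.2
    intro v hv
    have := mem_center_iff.1 hzc ⟨v, F.le hv⟩
    exact (congrArg Subtype.val this).symm
  have hz1' : (z : G) ≠ 1 := fun h => hz1 (Subtype.ext h)
  have hVR : V ≤ pCore 2 G := by
    intro v hv
    by_cases hv1 : v = 1
    · rw [hv1]; exact one_mem _
    · obtain ⟨g, hg⟩ := F.trans _ hzV hz1' v hv hv1
      rw [← hg]
      exact hRn.conj_mem _ hz g
  refine ⟨fun v hv g => F.closed v hv g (hRP (hRn.conj_mem _ (hVR hv) g))⟩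

/-- The centralizer of a normal `V`. -/
theorem centralizer_eq (F : Frame P V h) (hO : oddCore G = ⊥) (hVn : V.Normal) :
    centralizer (V : Set G) = V := by
  have : Fact (Nat.Prime 2) := ⟨Nat.prime_two⟩
  set C : Subgroup G := centralizer (V : Set G) with hC
  have hCn : C.Normal := inferInstance
  have hVC : V ≤ C := fun v hv => mem_centralizer_iff.2 (fun w hw => F.comm w hw v hv)
  have hCO : oddCore C = ⊥ := by
    have h1 := Cfsg.Agent.Lib.Cores.map_subtype_pPrimeCore (G := G) 2 (N := C) hCn
    have h2 : (Cfsg.pPrimeCore 2 G) = ⊥ := hO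
    rw [h2, inf_bot_eq] at h1
    exact (Subgroup.map_eq_bot_iff_of_injective _ C.subtype_injective).mp h1
  have h3 := Cfsg.Agent.TwoFusion.IsolatedCenter.eq_top_of_central (M := C) (V.subgroupOf C) (by
      intro w hw
      rw [Subgroup.mem_center_iff]
      intro v
      ext
      have := mem_centralizer_iff.1 v.2 _ (Subgroup.mem_subgroupOf.mp hw)
      simpa using this.symm) ?_ ?_ hCO
  · exact le_antisymm (Subgroup.subgroupOf_eq_top.mp h3) hVC
  · exact (P.isPGroup'.to_le F.le).comap_subtype
  · -- the index is odd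
    obtain ⟨T⟩ : Nonempty (Sylow 2 C) := inferInstance
    have hT : Nat.card T ≤ 4 := by
      set T' : Subgroup G := (T : Subgroup C).map C.subtype with hT'
      have hT'p : IsPGroup 2 T' := T.isPGroup'.map _
      obtain ⟨R, hR⟩ := hT'p.exists_le_sylow
      obtain ⟨g, hg⟩ := MulAction.exists_smul_eq G R P
      have h1 : T'.map (MulAut.conj g).toMonoidHom ≤ V := by
        rw [← F.inf_centralizer]
        rintro _ ⟨x, hx, rfl⟩
        constructor
        · have h1 : MulAut.conj g x ∈ MulAut.conj g • (R : Subgroup G) :=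
            Subgroup.smul_mem_pointwise_smul _ _ _ (hR hx)
          have h2 : MulAut.conj g x ∈ (P : Subgroup G) := by
            rw [← hg]; exact h1
          exact h2
        · obtain ⟨y, hy, rfl⟩ := hx
          exact hCn.conj_mem _ y.2 g
      have h2 := card_le_of_le h1
      rw [F.card] at h2
      have h3 : Nat.card ↥(T'.map (MulAut.conj g).toMonoidHom) = Nat.card T' :=
        (Nat.card_congr (T'.equivMapOfInjective _ (MulAut.conj g).injective).toEquiv).symm
      have h4 : Nat.card T' = Nat.card T :=
        (Nat.card_congr ((T : Subgroup C).equivMapOfInjective _ C.subtype_injective).toEquiv).symm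
      omega
    have h4 : Nat.card (V.subgroupOf C) = 4 := by
      rw [Nat.card_congr (subgroupOfEquivOfLe hVC).toEquiv, F.card]
    have h5 := Subgroup.card_mul_index (V.subgroupOf C)
    rw [h4] at h5
    rw [T.card_eq_multiplicity] at hT
    by_contra hev
    rw [Nat.not_odd_iff_even] at hev
    obtain ⟨m, hm⟩ := hev
    have h8 : 2 ^ 3 ∣ Nat.card C := by
      rw [← h5, hm]
      exact ⟨m, by ring⟩
    have h9 : 3 ≤ (Nat.card C).factorization 2 :=
      (Nat.prime_two.pow_dvd_iff_le_factorization Nat.card_pos.ne').1 h8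
    have h10 : 2 ^ 3 ≤ 2 ^ (Nat.card C).factorization 2 := Nat.pow_le_pow_right (by norm_num) h9
    omega

/-- order -/
theorem card_G (F : Frame P V h) (hO : oddCore G = ⊥) (hVn : V.Normal) :
    Nat.card G = 12 ∨ Nat.card G = 24 := by
  have h1 := card_dvd_of_normalizes (N := (⊤ : Subgroup G)) F.card (by
    rw [normalizer_eq_top])
  rw [top_inf_eq, centralizer_eq F hO hVn, F.card, card_top] at h1
  have h2 : 4 ∣ Nat.card G := by
    rw [← F.card]; exact card_subgroup_dvd_card V
  have h3 : 3 ∣ Nat.card G := by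
    have ho : orderOf h ∣ Nat.card G := orderOf_dvd_natCard h
    have ho2 : orderOf h ∣ 2 ^ 3 * 3 := by
      refine ho.trans ?_
      norm_num at h1 ⊢; exact h1
    have ho3 : orderOf h ∣ 3 :=
      (Nat.Coprime.pow_right 3 F.hodd).dvd_of_dvd_mul_left ho2
    rcases (Nat.dvd_prime Nat.prime_three).1 ho3 with h4 | h4
    · exfalso
      rw [orderOf_eq_one_iff] at h4
      obtain ⟨v, hv, hv1⟩ := F.exists_ne_one
      exact F.hmv v hv hv1 (by rw [h4]; group)
    · rw [← h4]; exact ho
  have h4 : 12 ∣ Nat.card G := (Nat.Coprime.mul_dvd_of_dvd_of_dvd (by norm_num) h2 h3)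
  obtain ⟨k, hk⟩ := h4
  rw [hk] at h1
  have h5 : 12 * k ∣ 12 * 2 := by norm_num at h1 ⊢; exact h1
  have h6 : k ∣ 2 := Nat.dvd_of_mul_dvd_mul_left (by norm_num) h5
  rcases (Nat.dvd_prime Nat.prime_two).1 h6 with h7 | h7
  · left; rw [hk, h7]
  · right; rw [hk, h7]

/-- the case of a normal four-group -/
theorem main (F : Frame P V h) (hO : oddCore G = ⊥) (hVn : V.Normal) :
    Nonempty (G ≃* ↥(alternatingGroup (Fin 4))) ∨ Nonempty (G ≃* Equiv.Perm (Fin 4)) := by
  classical
  have h3f : Fact (Nat.Prime 3) := ⟨Nat.prime_three⟩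
  have hcard := card_G F hO hVn
  obtain ⟨T⟩ : Nonempty (Sylow 3 G) := inferInstance
  have hT3 : Nat.card T = 3 := by
    rw [T.card_eq_multiplicity]
    rcases hcard with hc | hc
    · rw [hc]
      have : (12 : ℕ).factorization 3 = 1 := by
        rw [show (12 : ℕ) = 3 * 4 by norm_num, Nat.factorization_mul (by norm_num) (by norm_num)]
        simp [Nat.prime_three.factorization, Nat.factorization_eq_zero_of_not_dvd]
      rw [this, pow_one]
    · rw [hc]
      have : (24 : ℕ).factorization 3 = 1 := by
        rw [show (24 : ℕ) = 3 * 8 by norm_num, Nat.factorization_mul (by norm_num) (by norm_num)]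
        simp [Nat.prime_three.factorization, Nat.factorization_eq_zero_of_not_dvd]
      rw [this, pow_one]
  have hn1 : Nat.card (Sylow 3 G) ≡ 1 [MOD 3] := card_sylow_modEq_one 3 G
  have hn2 : Nat.card (Sylow 3 G) ∣ (T : Subgroup G).index := T.card_dvd_index
  have hidx : (T : Subgroup G).index ∣ 8 := by
    have := Subgroup.card_mul_index (T : Subgroup G)
    rw [hT3] at this
    rcases hcard with hc | hc
    · rw [hc] at this
      have : (T : Subgroup G).index = 4 := by omega
      rw [this]; norm_num
    · rw [hc] at this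
      have : (T : Subgroup G).index = 8 := by omega
      rw [this]
  have hn3 : Nat.card (Sylow 3 G) ∣ 8 := hn2.trans hidx
  have hnne : Nat.card (Sylow 3 G) ≠ 1 := by
    intro h1
    have : Subsingleton (Sylow 3 G) := (Nat.card_eq_one_iff_unique.1 h1).1
    have hTn : (T : Subgroup G).Normal := T.normal_of_subsingleton
    have := Cfsg.Agent.ONType.Cz.eq_bot_of_odd hO _ hTn (by rw [hT3]; decide)
    rw [this, card_bot] at hT3
    omega
  have hn4 : Nat.card (Sylow 3 G) = 4 := by
    have hle : Nat.card (Sylow 3 G) ≤ 8 := Nat.le_of_dvd (by norm_num) hn3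
    generalize Nat.card (Sylow 3 G) = n at *
    have : n % 3 = 1 := hn1
    interval_cases n <;> omega
  -- the action
  let e : Sylow 3 G ≃ Fin 4 := (Finite.equivFinOfCardEq hn4)
  let f0 : G →* Equiv.Perm (Sylow 3 G) := MulAction.toPermHom G (Sylow 3 G)
  let f : G →* Equiv.Perm (Fin 4) := (e.permCongrHom.toMonoidHom).comp f0
  have hker : f0.ker = ⊥ := by
    by_cases hK : ∃ v ∈ V, v ≠ 1 ∧ v ∈ f0.ker
    · exfalso
      obtain ⟨v, hv, hv1, hvK⟩ := hK
      have hVK : V ≤ f0.ker := by
        intro w hw
        by_cases hw1 : w = 1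
        · rw [hw1]; exact one_mem _
        · obtain ⟨g, hg⟩ := F.trans v hv hv1 w hw hw1
          rw [← hg]
          exact (inferInstance : f0.ker.Normal).conj_mem _ hvK g
      -- `V` normalizes `T`
      have hdis : Disjoint V (T : Subgroup G) := by
        rw [disjoint_iff]
        apply (card_eq_one).1
        have h1 : Nat.card ↥(V ⊓ (T : Subgroup G)) ∣ 4 := by
          rw [← F.card]; exact card_dvd_of_le inf_le_left
        have h2 : Nat.card ↥(V ⊓ (T : Subgroup G)) ∣ 3 := by
          have h0 := card_dvd_of_le (inf_le_right : V ⊓ (T : Subgroup G) ≤ (T : Subgroup G))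
          rw [hT3] at h0
          exact h0
        exact Nat.dvd_one.1 (by
          have := Nat.dvd_gcd h1 h2
          simpa using this)
      have hTC : (T : Subgroup G) ≤ centralizer (V : Set G) := by
        intro t ht
        rw [mem_centralizer_iff]
        intro w hw
        have h1 : w • T = T := by
          have := hVK hw
          exact DFunLike.congr_fun this T
        have h2 : w * t * w⁻¹ ∈ (T : Subgroup G) := by
          have h3 : MulAut.conj w t ∈ MulAut.conj w • (T : Subgroup G) :=
            Subgroup.smul_mem_pointwise_smul _ _ _ ht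
          have h4 : (MulAut.conj w • (T : Subgroup G) : Subgroup G) = (T : Subgroup G) :=
            congrArg (fun S : Sylow 3 G => (S : Subgroup G)) h1
          rw [h4] at h3
          exact h3
        have h5 : w * t * w⁻¹ * t⁻¹ ∈ (T : Subgroup G) := mul_mem h2 (inv_mem ht)
        have h6 : w * t * w⁻¹ * t⁻¹ ∈ V := by
          have : w * t * w⁻¹ * t⁻¹ = w * (t * w⁻¹ * t⁻¹) := by group
          rw [this]
          exact mul_mem hw (hVn.conj_mem _ (inv_mem hw) t)
        have h7 := (disjoint_def.1 hdis) h6 h5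
        have h8 : w * t * w⁻¹ = t := by rwa [mul_inv_eq_one] at h7
        rwa [mul_inv_eq_iff_eq_mul] at h8
      rw [centralizer_eq F hO hVn] at hTC
      have h1 := card_dvd_of_le hTC
      rw [hT3, F.card] at h1
      omega
    · push Not at hK
      have hKC : f0.ker ≤ centralizer (V : Set G) := by
        intro k hk
        rw [mem_centralizer_iff]
        intro w hw
        have h5 : w * k * w⁻¹ * k⁻¹ ∈ f0.ker :=
          mul_mem ((inferInstance : f0.ker.Normal).conj_mem _ hk w) (inv_mem hk)
        have h6 : w * k * w⁻¹ * k⁻¹ ∈ V := by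
          have : w * k * w⁻¹ * k⁻¹ = w * (k * w⁻¹ * k⁻¹) := by group
          rw [this]
          exact mul_mem hw (hVn.conj_mem _ (inv_mem hw) k)
        have h7 : w * k * w⁻¹ * k⁻¹ = 1 := by
          by_contra hne
          exact hK _ h6 hne h5
        have h8 : w * k * w⁻¹ = k := by rwa [mul_inv_eq_one] at h7
        rwa [mul_inv_eq_iff_eq_mul] at h8
      rw [centralizer_eq F hO hVn] at hKC
      rw [eq_bot_iff_forall]
      intro k hk
      by_contra hne
      exact hK k (hKC hk) hne hk
  have hfinj : Function.Injective f := by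
    have h1 : Function.Injective f0 := (MonoidHom.ker_eq_bot_iff f0).1 hker
    exact e.permCongrHom.injective.comp h1
  have hrange : Nat.card f.range = Nat.card G :=
    (Nat.card_congr (MonoidHom.ofInjective hfinj).toEquiv).symm
  have h24 : Nat.card (Equiv.Perm (Fin 4)) = 24 := by
    rw [Nat.card_perm, Nat.card_fin]; rfl
  rcases hcard with hc | hc
  · left
    have h1 := Subgroup.card_mul_index f.range
    rw [hrange, hc, h24] at h1
    have h2 : f.range.index = 2 := by omega
    have h3 := Equiv.Perm.eq_alternatingGroup_of_index_eq_two h2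
    exact ⟨(MonoidHom.ofInjective hfinj).trans (MulEquiv.subgroupCongr h3)⟩
  · right
    have h1 : Function.Bijective f := by
      refine (Nat.bijective_iff_injective_and_card f).2 ⟨hfinj, ?_⟩
      rw [hc, h24]
    exact ⟨MulEquiv.ofBijective f h1⟩

end Cfsg.Agent.H474.TwoSolv
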