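import Mathlib
import Cfsg.Agent.H474.TwoSolv
import Cfsg.Agent.Lib.HallHigman
import Cfsg.Agent.TwoFusion.SLTwoFacts
import Cfsg.Agent.LieClassical.SmallIso
import Cfsg.Agent.OddOrderLocal.CommProd
import Cfsg.Agent.SylowSp4.Hyps

/-!
# Groups with exactly `|P|/2` classes of 2-elements: the case `O_2(G) = 1`
-/

set_option autoImplicit false
open Cfsg

namespace Cfsg.Agent.H474.TwoPerf

universe u

open Subgroup Cfsg.Agent.H474.TwoCount Cfsg.Agent.H474.TwoFour Cfsg.Agent.H474.TwoFrame
open scoped Pointwise commutatorElement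

/-- The focal subgroup theorem in the form used here. -/
theorem inf_commutator_le {G : Type u} [Group G] [Finite G] {p : ℕ} [Fact p.Prime] (S : Sylow p G)
    (X : Subgroup G)
    (h : ∀ a ∈ (S : Subgroup G), ∀ g : G, g⁻¹ * a * g ∈ (S : Subgroup G) → a⁻¹ * (g⁻¹ * a * g) ∈ X) :
    (S : Subgroup G) ⊓ commutator G ≤ X := by
  rw [inf_comm, Subgroup.commutator_inf_eq_focalSubgroup, Subgroup.focalSubgroup_def,
    Subgroup.closure_le]
  rintro _ ⟨hmem, x, hx, u, rfl⟩
  have h1 : (u⁻¹)⁻¹ * x * u⁻¹ ∈ (S : Subgroup G) := by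
    have h2 : (u⁻¹)⁻¹ * x * u⁻¹ = (⁅x, u⁆)⁻¹ * x := by
      rw [commutatorElement_def]; group
    rw [h2]
    exact mul_mem (inv_mem hmem) hx
  have h4 := h x⁻¹ (inv_mem hx) u⁻¹ (by
    have : (u⁻¹)⁻¹ * x⁻¹ * u⁻¹ = ((u⁻¹)⁻¹ * x * u⁻¹)⁻¹ := by group
    rw [this]; exact inv_mem h1)
  have h5 : (x⁻¹)⁻¹ * ((u⁻¹)⁻¹ * x⁻¹ * u⁻¹) = ⁅x, u⁆ := by
    rw [commutatorElement_def]; group
  rw [h5] at h4
  exact h4

variable {G : Type u} [Group G] [Finite G]
variable {P : Sylow 2 G} {V : Subgroup G} {h : G}

/-- The focal subgroup lies in `V`. -/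
theorem inf_commutator_le_V (F : Frame P V h) : (P : Subgroup G) ⊓ commutator G ≤ V := by
  classical
  have : Fact (Nat.Prime 2) := ⟨Nat.prime_two⟩
  apply inf_commutator_le
  intro a ha g hg
  set b : G := g⁻¹ * a * g with hb
  by_cases haV : a ∈ V
  · have h1 : b ∈ V := by
      have := F.closed a haV g⁻¹ (by rw [inv_inv]; exact hg)
      rw [inv_inv] at this; exact this
    exact mul_mem (inv_mem haV) h1
  · by_cases hab : a = b
    · rw [← hab, inv_mul_cancel]; exact one_mem _
    · -- some `v ∈ V` moves `a`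
      obtain ⟨v, hv, hva⟩ : ∃ v ∈ V, a * v ≠ v * a := by
        by_contra hcon
        push Not at hcon
        exact haV (F.cent a ha hcon)
      set c : G := v * a * v⁻¹ with hc
      have hcP : c ∈ P := mul_mem (mul_mem (F.le hv) ha) (inv_mem (F.le hv))
      have hac : a ≠ c := by
        intro e
        apply hva
        rw [hc, eq_mul_inv_iff_mul_eq] at e
        exact e
      have hbc : b = c := by
        by_contra hne
        have h3 := card_fiber_ge P (⟨a, ha⟩ : P) ⟨a, ha⟩ ⟨b, hg⟩ ⟨c, hcP⟩ rfl
          (by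
            rw [cls_eq_iff]
            refine ⟨g, ?_⟩
            change g * b * g⁻¹ = a
            rw [hb]; group)
          (by
            rw [cls_eq_iff]
            refine ⟨v⁻¹, ?_⟩
            change v⁻¹ * c * v⁻¹⁻¹ = a
            rw [hc]; group)
          (fun e => hab (congrArg Subtype.val e)) (fun e => hac (congrArg Subtype.val e))
          (fun e => hne (congrArg Subtype.val e))
        have h4 := F.fib a ha haV
        omega
      rw [hbc, hc]
      have e1 : a⁻¹ * (v * a * v⁻¹) = (a⁻¹ * v * a⁻¹⁻¹) * v⁻¹ := by group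
      rw [e1]
      exact mul_mem (F.nrm a⁻¹ (inv_mem ha) v hv) (inv_mem hv)

/-- the perfect radical -/
theorem exists_perfect (G : Type u) [Group G] [Finite G] :
    ∃ X : Subgroup G, X.Normal ∧ ⁅X, X⁆ = X ∧ (X = ⊥ → Group.IsSolvable G) := by
  obtain ⟨D, hD⟩ := Set.Finite.exists_minimal (s := Set.range (derivedSeries G)) (Set.toFinite _)
    ⟨_, ⟨0, rfl⟩⟩
  obtain ⟨n, hn⟩ := hD.1
  refine ⟨D, ?_, ?_, ?_⟩
  · rw [← hn]; infer_instance
  · have h1 : ⁅D, D⁆ ≤ D := by
      have : D.Normal := by rw [← hn]; infer_instance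
      exact commutator_le_left D D
    have h2 : derivedSeries G (n + 1) = ⁅D, D⁆ := by rw [derivedSeries_succ, hn]
    exact le_antisymm h1 (hD.2 ⟨n + 1, h2⟩ h1)
  · intro h0
    exact ⟨⟨n, by rw [hn, h0]⟩⟩

omit [Finite G] in
theorem oddCore_normal_eq_bot [Finite G] (hO : oddCore G = ⊥) (N : Subgroup G) (hN : N.Normal) :
    oddCore N = ⊥ := by
  have h1 := Cfsg.Agent.Lib.Cores.map_subtype_pPrimeCore (G := G) 2 (N := N) hN
  have h2 : (Cfsg.pPrimeCore 2 G) = ⊥ := hO
  rw [h2, inf_bot_eq] at h1
  exact (Subgroup.map_eq_bot_iff_of_injective _ N.subtype_injective).mp h1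

/-- A core-free group with cyclic Sylow 2-subgroups is a 2-group. -/
theorem isPGroup_of_cyclic {C : Type u} [Group C] [Finite C] (hO : oddCore C = ⊥) (T : Sylow 2 C)
    (hT : IsCyclic T) : (T : Subgroup C) = ⊤ ∧ commutator C = ⊥ := by
  have h2f : Fact (Nat.Prime 2) := ⟨Nat.prime_two⟩
  by_cases h1 : 2 ∣ Nat.card C
  · have hmin : (Nat.card C).minFac = 2 := (Nat.minFac_eq_two_iff _).2 h1
    have hle := hT.normalizer_le_centralizer hmin
    have hcomp := MonoidHom.ker_transferSylow_isComplement' T hle
    have hnd := MonoidHom.not_dvd_card_ker_transferSylow T hle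
    have hker : (MonoidHom.transferSylow T hle).ker = ⊥ := by
      apply Cfsg.Agent.ONType.Cz.eq_bot_of_odd hO _ inferInstance
      exact Nat.not_even_iff_odd.1 (fun h => hnd (even_iff_two_dvd.1 h))
    rw [hker, isComplement'_bot_left] at hcomp
    refine ⟨hcomp, ?_⟩
    have hinj : Function.Injective (MonoidHom.transferSylow T hle) :=
      (MonoidHom.ker_eq_bot_iff _).1 hker
    have hab : IsMulCommutative T := by infer_instance
    rw [commutator_def, eq_bot_iff, commutator_le]
    intro x _ y _
    rw [mem_bot, commutatorElement_eq_one_iff_mul_comm]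
    apply hinj
    rw [map_mul, map_mul]
    exact hab.is_comm.comm _ _
  · have hodd : Odd (Nat.card C) := Nat.not_even_iff_odd.1 (fun h => h1 (even_iff_two_dvd.1 h))
    have htop : (⊤ : Subgroup C) = ⊥ := Cfsg.Agent.ONType.Cz.eq_bot_of_odd hO ⊤ inferInstance (by
      rw [card_top]; exact hodd)
    have hall : ∀ x : C, x = 1 := fun x => by
      have : x ∈ (⊤ : Subgroup C) := mem_top x
      rw [htop, mem_bot] at this
      exact this
    constructor
    · rw [eq_top_iff]
      intro x _
      rw [hall x]; exact one_mem _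
    · rw [eq_bot_iff]
      intro x _
      rw [hall x]; exact one_mem _

theorem dihedral_of_four {T : Type u} [Group T] (h4 : Nat.card T = 4) (hnc : ¬ IsCyclic T) :
    Nonempty (T ≃* DihedralGroup 2) := by
  have hfin : Finite T := Nat.finite_of_card_ne_zero (by omega)
  have hsq : ∀ x : T, x ^ 2 = 1 := by
    intro x
    have h1 : orderOf x ∣ 2 ^ 2 := by
      have := orderOf_dvd_natCard x
      rw [h4] at this; exact this
    obtain ⟨k, hk, hk2⟩ := (Nat.dvd_prime_pow Nat.prime_two).1 h1
    interval_cases k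
    · rw [pow_zero] at hk2
      rw [orderOf_eq_one_iff.1 hk2, one_pow]
    · have h5 := pow_orderOf_eq_one x
      rw [hk2, pow_one] at h5
      exact h5
    · exfalso
      apply hnc
      exact isCyclic_of_orderOf_eq_card x (by rw [hk2, h4]; norm_num)
  have hk : IsKleinFour T := by
    refine ⟨h4, ?_⟩
    have h1 : Monoid.exponent T ∣ 2 := Monoid.exponent_dvd_of_forall_pow_eq_one hsq
    rcases (Nat.dvd_prime Nat.prime_two).1 h1 with h2 | h2
    · exfalso
      have h3 : Subsingleton T := by
        rw [Monoid.exp_eq_one_iff] at h2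
        exact h2
      have := Nat.card_of_subsingleton (1 : T)
      omega
    · exact h2
  exact IsKleinFour.nonempty_mulEquiv

/-- the case of trivial `O_2` -/
theorem main (hGW : Cfsg.Agent.SylowSp4.Hyps.GW.{u}) (F : Frame P V h) (hO : oddCore G = ⊥)
    (hR : pCore 2 G = ⊥) :
    ∃ S : Subgroup G, S.Normal ∧ IsSimpleGroup ↥S ∧ ¬ IsMulCommutative ↥S ∧
      Subgroup.centralizer (S : Set G) = ⊥ ∧
      ∃ (F : Type) (_ : Field F) (_ : Fintype F), 3 < Fintype.card F ∧ (Fintype.card F % 8 = 3 ∨ Fintype.card F % 8 = 5) ∧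
        Nonempty (↥S ≃* Matrix.ProjectiveSpecialLinearGroup (Fin 2) F) := by
  classical
  have h2f : Fact (Nat.Prime 2) := ⟨Nat.prime_two⟩
  obtain ⟨X, hXn, hXp, hXs⟩ := exists_perfect G
  have hX1 : X ≠ ⊥ := by
    intro h0
    have hs := hXs h0
    have h1 := Cfsg.Agent.Lib.HallHigman.centralizer_pCore_le_of_solvable (G := G) 2 hO
    rw [hR] at h1
    obtain ⟨v, hv, hv1⟩ := F.exists_ne_one
    have h2 : v ∈ (⊥ : Subgroup G) := h1 (mem_centralizer_iff.2 (by
      intro w hw
      have : w = 1 := hw
      rw [this, one_mul, mul_one]))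
    exact hv1 (mem_bot.1 h2)
  have hXO : oddCore X = ⊥ := oddCore_normal_eq_bot hO X hXn
  have hXperf : Group.IsPerfect X := Subgroup.isPerfect_iff.2 hXp
  have hXc : commutator X = ⊤ := hXperf.commutator_eq_top
  have hXnt : Nontrivial X := (nontrivial_iff_ne_bot X).2 hX1
  obtain ⟨T⟩ : Nonempty (Sylow 2 X) := inferInstance
  have hTnc : ¬ IsCyclic T := by
    intro hc
    have := (isPGroup_of_cyclic hXO T hc).2
    rw [hXc] at this
    exact absurd this top_ne_bot
  -- the order of `T`
  have hTle : Nat.card T ≤ 4 := by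
    by_contra hlt
    push Not at hlt
    set T' : Subgroup G := (T : Subgroup X).map X.subtype with hT'
    have hT'p : IsPGroup 2 T' := T.isPGroup'.map _
    obtain ⟨R, hRT⟩ := hT'p.exists_le_sylow
    have h4 : Nat.card T' = Nat.card T :=
      (Nat.card_congr ((T : Subgroup X).equivMapOfInjective _ X.subtype_injective).toEquiv).symm
    have h5 : Nat.card T' ∣ Nat.card R := card_dvd_of_le hRT
    have h6 : Nat.card R = Nat.card P := by
      rw [R.card_eq_multiplicity, P.card_eq_multiplicity]
    have h7 : Nat.card (P : Subgroup G) = 8 := by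
      rcases F.card_P with h8 | h8
      · exfalso
        have := Nat.le_of_dvd (by omega) h5
        omega
      · exact h8
    have h8 : Nat.card T' = 8 := by
      rw [h6, h7] at h5
      have h9 : Nat.card T' ∣ 2 ^ 3 := h5
      obtain ⟨k, hk, hk2⟩ := (Nat.dvd_prime_pow Nat.prime_two).1 h9
      interval_cases k <;> omega
    have h9 : T' = (R : Subgroup G) := eq_of_le_of_card_ge hRT (by
      change Nat.card R ≤ Nat.card T'
      omega)
    have hRX : (R : Subgroup G) ≤ X := by
      rw [← h9]; exact map_subtype_le _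
    obtain ⟨g, hg⟩ := MulAction.exists_smul_eq G R P
    have hPX : (P : Subgroup G) ≤ X := by
      intro x hx
      have h1 : x ∈ MulAut.conj g • (R : Subgroup G) := by
        have : (MulAut.conj g • (R : Subgroup G) : Subgroup G) = (P : Subgroup G) :=
          congrArg (fun S : Sylow 2 G => (S : Subgroup G)) hg
        rw [this]; exact hx
      rw [Subgroup.mem_pointwise_smul_iff_inv_smul_mem] at h1
      have h2 := hXn.conj_mem _ (hRX h1) g
      have h3 : g * ((MulAut.conj g)⁻¹ • x) * g⁻¹ = x := by
        have : (MulAut.conj g)⁻¹ • x = g⁻¹ * x * g := by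
          change (MulAut.conj g)⁻¹ x = _
          simp
        rw [this]; group
      rw [h3] at h2
      exact h2
    have hPc : (P : Subgroup G) ≤ commutator G := by
      refine hPX.trans ?_
      rw [← hXp, commutator_def]
      exact commutator_mono le_top le_top
    have hPV : (P : Subgroup G) ≤ V := by
      have := inf_commutator_le_V F
      rw [inf_eq_left.2 hPc] at this
      exact this
    have := card_le_of_le hPV
    rw [F.card] at this
    omega
  have hT4 : Nat.card T = 4 := by
    obtain ⟨k, hk⟩ := IsPGroup.iff_card.1 T.isPGroup'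
    have hk' : Nat.card T = 2 ^ k := hk
    have hk2 : k ≤ 2 := by
      by_contra hlt
      push Not at hlt
      have : 2 ^ 3 ≤ 2 ^ k := Nat.pow_le_pow_right (by norm_num) hlt
      omega
    interval_cases k
    · exfalso
      apply hTnc
      have : Subsingleton T := by
        rw [pow_zero] at hk'
        exact (Nat.card_eq_one_iff_unique.1 hk').1
      infer_instance
    · exfalso
      apply hTnc
      exact isCyclic_of_prime_card (p := 2) (by rw [hk']; norm_num)
    · rw [hk']; norm_num
  have h4X : 4 ∣ Nat.card X := by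
    rw [← hT4]; exact card_subgroup_dvd_card (T : Subgroup X)
  have h8X : ¬ 8 ∣ Nat.card X := by
    intro h8
    have h9 : 3 ≤ (Nat.card X).factorization 2 :=
      (Nat.prime_two.pow_dvd_iff_le_factorization Nat.card_pos.ne').1 (by norm_num; exact h8)
    have h10 : 2 ^ 3 ≤ 2 ^ (Nat.card X).factorization 2 := Nat.pow_le_pow_right (by norm_num) h9
    rw [T.card_eq_multiplicity] at hT4
    omega
  have hquo : Nonempty (X ⧸ oddCore X ≃* X) := by
    have hn : (oddCore X).Normal := inferInstance
    exact ⟨(QuotientGroup.quotientMulEquivOfEq hXO).trans QuotientGroup.quotientBot⟩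
  obtain ⟨eq⟩ := hquo
  rcases hGW X T 2 le_rfl (dihedral_of_four hT4 hTnc) with ⟨F', i1, i2, hodd, h3, ⟨e⟩⟩ | e0
  · have e' : X ≃* Matrix.ProjectiveSpecialLinearGroup (Fin 2) F' := eq.symm.trans e
    have hsimple : IsSimpleGroup X := by
      have := Cfsg.Agent.TwoFusion.SLTwoFacts.isSimpleGroup_psl (F := F') h3
      exact e'.isSimpleGroup
    have hnab : ¬ IsMulCommutative X := by
      intro hab
      have h1 : commutator X = ⊥ := by
        rw [commutator_def, eq_bot_iff, commutator_le]
        intro x _ y _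
        rw [mem_bot, commutatorElement_eq_one_iff_mul_comm]
        exact hab.is_comm.comm _ _
      rw [hXc] at h1
      exact absurd h1 top_ne_bot
    have hcardX : 2 * Nat.card X = Fintype.card F' * (Fintype.card F' ^ 2 - 1) := by
      rw [Nat.card_congr e'.toEquiv]
      apply Cfsg.Agent.LieClassical.SmallIso.card_psl_two F'
      intro h0
      have h1 : ringChar F' = 2 := by
        have h2 : ringChar F' ∣ 2 := (ringChar.spec F' 2).1 (by exact_mod_cast h0)
        rcases (Nat.dvd_prime Nat.prime_two).1 h2 with h3 | h3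
        · exact absurd h3 (CharP.ringChar_ne_one)
        · exact h3
      have h2 : Fintype.card F' % 2 = 0 := FiniteField.even_card_of_char_two h1
      rw [Nat.odd_iff] at hodd
      omega
    refine ⟨X, hXn, hsimple, hnab, ?_, F', i1, i2, h3, ?_, ⟨e'⟩⟩
    · -- the centralizer
      set C : Subgroup G := centralizer (X : Set G) with hC
      have hCn : C.Normal := inferInstance
      have hCO : oddCore C = ⊥ := oddCore_normal_eq_bot hO C hCn
      have hinf : C ⊓ X = ⊥ := by
        have hn' : (C.subgroupOf X).Normal := inferInstance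
        rcases hn'.eq_bot_or_eq_top with h0 | h0
        · rw [subgroupOf_eq_bot] at h0
          exact h0.eq_bot
        · exfalso
          apply hnab
          rw [subgroupOf_eq_top] at h0
          refine ⟨⟨fun a b => Subtype.ext ?_⟩⟩
          exact mem_centralizer_iff.1 (h0 b.2) a a.2
      have hsup := Cfsg.Agent.OddOrderLocal.CommProd.card_sup_of_comm (H := C) (K := X)
        (fun a ha b hb => (mem_centralizer_iff.1 ha b hb).symm) hinf
      have hdvd : Nat.card C * Nat.card X ∣ Nat.card G := by
        rw [← hsup]; exact card_subgroup_dvd_card _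
      have h4C : ¬ 4 ∣ Nat.card C := by
        intro h4
        have h16 : 2 ^ 4 ∣ Nat.card G := by
          have : (4 * 4 : ℕ) ∣ Nat.card C * Nat.card X := Nat.mul_dvd_mul h4 h4X
          exact (by norm_num at this ⊢; exact this : 2 ^ 4 ∣ Nat.card C * Nat.card X).trans hdvd
        have h9 : 4 ≤ (Nat.card G).factorization 2 :=
          (Nat.prime_two.pow_dvd_iff_le_factorization Nat.card_pos.ne').1 h16
        have h10 : 2 ^ 4 ≤ 2 ^ (Nat.card G).factorization 2 := Nat.pow_le_pow_right (by norm_num) h9
        have h11 := F.card_P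
        have h12 : Nat.card (P : Subgroup G) = 2 ^ (Nat.card G).factorization 2 := P.card_eq_multiplicity
        omega
      obtain ⟨T2⟩ : Nonempty (Sylow 2 C) := inferInstance
      have hT2c : IsCyclic T2 := by
        obtain ⟨k, hk⟩ := IsPGroup.iff_card.1 T2.isPGroup'
        have hk' : Nat.card T2 = 2 ^ k := hk
        have hk2 : k < 2 := by
          by_contra hlt
          push Not at hlt
          apply h4C
          have h1 : 2 ^ 2 ∣ 2 ^ k := pow_dvd_pow 2 hlt
          have h2 : Nat.card T2 ∣ Nat.card C := card_subgroup_dvd_card (T2 : Subgroup C)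
          rw [hk'] at h2
          exact (by norm_num at h1 ⊢; exact h1 : 4 ∣ 2 ^ k).trans h2
        interval_cases k
        · have : Subsingleton T2 := by
            rw [pow_zero] at hk'
            exact (Nat.card_eq_one_iff_unique.1 hk').1
          infer_instance
        · exact isCyclic_of_prime_card (p := 2) (by rw [hk']; norm_num)
      have h1 := (isPGroup_of_cyclic hCO T2 hT2c).1
      have hCp : IsPGroup 2 C := by
        have h2 : IsPGroup 2 (⊤ : Subgroup C) := by
          rw [← h1]; exact T2.isPGroup'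
        exact h2.of_equiv Subgroup.topEquiv
      have h2 : C ≤ pCore 2 G := Cfsg.Agent.Lib.Cores.le_pCore hCn hCp
      rw [hR] at h2
      exact eq_bot_iff.2 h2
    · by_contra hq
      push Not at hq
      obtain ⟨q1, q2⟩ := hq
      apply h8X
      set q := Fintype.card F' with hqdef
      have hq8 : q % 8 = 1 ∨ q % 8 = 7 := by
        rw [Nat.odd_iff] at hodd
        omega
      have h16 : 16 ∣ q ^ 2 - 1 := by
        have h1 : 1 ≤ q ^ 2 := Nat.one_le_pow _ _ (by omega)
        have h2 : q ^ 2 ≡ 1 [MOD 16] := by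
          have h16q : q % 16 = 1 ∨ q % 16 = 9 ∨ q % 16 = 7 ∨ q % 16 = 15 := by omega
          rcases h16q with h | h | h | h
          · exact (Nat.ModEq.pow 2 (show q ≡ 1 [MOD 16] from h))
          · exact (Nat.ModEq.pow 2 (show q ≡ 9 [MOD 16] from h)).trans (by decide)
          · exact (Nat.ModEq.pow 2 (show q ≡ 7 [MOD 16] from h)).trans (by decide)
          · exact (Nat.ModEq.pow 2 (show q ≡ 15 [MOD 16] from h)).trans (by decide)
        exact (Nat.modEq_iff_dvd' h1).1 h2.symm
      obtain ⟨m, hm⟩ := h16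
      rw [hm] at hcardX
      exact ⟨q * m, by nlinarith⟩
  · exfalso
    obtain ⟨e⟩ := e0
    have e' : X ≃* alternatingGroup (Fin 7) := eq.symm.trans e
    apply h8X
    rw [Nat.card_congr e'.toEquiv]
    have h1 : 2 * Nat.card (alternatingGroup (Fin 7)) = Nat.card (Equiv.Perm (Fin 7)) :=
      two_mul_nat_card_alternatingGroup
    rw [Nat.card_perm, Nat.card_fin] at h1
    have h2 : Nat.factorial 7 = 5040 := rfl
    rw [h2] at h1
    exact ⟨315, by omega⟩

end Cfsg.Agent.H474.TwoPerf
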